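import Groth.Agent.SGA3t2b.K796.ConnCase
import Groth.Agent.Sga3.H219.NeutralK
import Mathlib.RingTheory.DualNumber

/-!
# Every element of the Lie algebra lies in the Lie algebra of a Borel subgroup: disconnected case
-/

set_option autoImplicit false

universe u

open CategoryTheory MonoidalCategory CartesianMonoidalCategory MonObj GrpObj AlgebraicGeometry
open Groth.Agent.Books.AlgPts

namespace K796.GenCase

variable {k : Type u} [Field k] [IsAlgClosed k]

/-- Borel subgroups of the neutral component are Borel subgroups. -/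
theorem isBorelOver_of_neutral {B U G : Over (Spec (CommRingCat.of k))} [GrpObj B] [GrpObj U]
    [GrpObj G] (u : U ⟶ G) [IsMonHom u] [IsClosedImmersion u.left] [IsOpenImmersion u.left]
    (hr : Set.range u.left = connectedComponent (pt η[G])) (b : B ⟶ U)
    (hb : Red.IsBorelOver k b) : Red.IsBorelOver k (b ≫ u) := by
  obtain ⟨hb1, hb2, hb3, hb4, hb5, hb6⟩ := hb
  refine ⟨inferInstance, ?_, hb3, hb4, hb5, ?_⟩
  · rw [Over.comp_left]; infer_instance
  intro B' _ i' _ f hi'c hi's hi'con hi'sol hfi
  have hsub : Set.range i'.left ⊆ Set.range u.left := by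
    rw [hr]
    have h1 : _root_.IsPreconnected (Set.range i'.left) := isPreconnected_range i'.left.continuous
    refine h1.subset_connectedComponent ⟨pt η[B'], ?_⟩
    have h2 : η[B'] ≫ i' = η[G] := IsMonHom.one_hom i'
    rw [← h2]
    rfl
  let s : B' ⟶ U := Over.homMk (IsOpenImmersion.lift u.left i'.left hsub) (by
    rw [← Over.w u, ← Category.assoc, IsOpenImmersion.lift_fac, Over.w])
  have hs : s ≫ u = i' := by
    ext1
    exact IsOpenImmersion.lift_fac _ _ _
  have hum : Mono u := Groth.Agent.Books.AlgPtsGrp.mono_of_isClosedImmersion u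
  have hsm : IsMonHom s := by
    have h1 : IsMonHom (s ≫ u) := by rw [hs]; infer_instance
    exact K492.Basic.isMonHom_of_comp_mono s u h1
  have hsc : IsClosedImmersion s.left := by
    have h1 : IsClosedImmersion (s.left ≫ u.left) := by
      rw [← Over.comp_left, hs]; exact hi'c
    exact IsClosedImmersion.of_comp s.left u.left
  refine hb6 B' s f hsc hi's hi'con hi'sol ?_
  rw [← cancel_mono u, Category.assoc, hs, hfi]

variable (k) in
theorem main (G : Over (Spec (CommRingCat.of k))) [GrpObj G] [Smooth G.hom] [QuasiCompact G.hom]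
    (v : ↥(LieS.LieR G k)) :
    ∃ (B : Over (Spec (CommRingCat.of k))) (_ : GrpObj B) (i : B ⟶ G) (_ : IsMonHom i),
      Red.IsBorelOver k i ∧ ∃ w : ↥(LieS.LieR B k),
        LieS.map k (Spec.map (CommRingCat.ofHom (algebraMap k k))) i w = v := by
  obtain ⟨U, _, u, hu1, hu2, hu3, hu4, hu5, hu6, hr⟩ := Groth.Agent.Sga3.H219.NeutralK.exists_neutral G
  have hum : Mono u := Groth.Agent.Books.AlgPtsGrp.mono_of_isClosedImmersion u
  have hv0 : LieS.zeroSec k (Spec.map (CommRingCat.ofHom (algebraMap k k))) ≫ v.1 = 1 := v.2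
  have hsub : Set.range v.1.left ⊆ Set.range u.left := by
    rintro _ ⟨x, rfl⟩
    have ho : IsOpen (Set.range u.left) := u.left.isOpenEmbedding.isOpen_range
    let c : ↥(Spec (CommRingCat.of (DualNumber k))) := IsLocalRing.closedPoint (DualNumber k)
    have h1 : (x : ↥(Spec (CommRingCat.of (DualNumber k)))) ⤳ c :=
      IsLocalRing.specializes_closedPoint (R := DualNumber k) x
    have h2 : v.1.left x ⤳ v.1.left c := h1.map v.1.left.continuous
    refine h2.mem_open ho ?_
    rw [hr]
    let y : ↥(Spec (CommRingCat.of k)) := IsLocalRing.closedPoint k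
    have h3 : (LieS.zeroSec k (Spec.map (CommRingCat.ofHom (algebraMap k k)))).left y = c := by
      have hloc : IsLocalHom (TrivSqZeroExt.fstHom k k k).toRingHom := by
        refine ⟨fun a ha => ?_⟩
        rw [TrivSqZeroExt.isUnit_iff_isUnit_fst]
        exact ha
      exact IsLocalRing.comap_closedPoint (TrivSqZeroExt.fstHom k k k).toRingHom
    have h4 : v.1.left c = pt η[G] := by
      rw [← h3]
      change ((LieS.zeroSec k (Spec.map (CommRingCat.ofHom (algebraMap k k)))) ≫ v.1).left y = _
      rw [hv0, Hom.one_def]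
      rfl
    rw [h4]
    exact mem_connectedComponent
  let v' : LieS.dpt k (Spec.map (CommRingCat.ofHom (algebraMap k k))) ⟶ U :=
    Over.homMk (IsOpenImmersion.lift u.left v.1.left hsub) (by
      rw [← Over.w u, ← Category.assoc, IsOpenImmersion.lift_fac, Over.w])
  have hv' : v' ≫ u = v.1 := by
    ext1
    exact IsOpenImmersion.lift_fac _ _ _
  have hv'0 : v' ∈ LieS.LieR U k := by
    rw [LieS.mem_Lie_iff, ← cancel_mono u, Category.assoc, hv', MonObj.one_comp]
    exact hv0
  obtain ⟨B, _, b, hbm, hb, w, hw⟩ := ConnCase.conn k U ⟨v', hv'0⟩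
  refine ⟨B, inferInstance, b ≫ u, inferInstance, isBorelOver_of_neutral u hr b hb, w, ?_⟩
  apply Subtype.ext
  change w.1 ≫ b ≫ u = v.1
  have hw1 : w.1 ≫ b = v' := congrArg Subtype.val hw
  rw [← Category.assoc, hw1, hv']

end K796.GenCase
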