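import Groth.Agent.SGA3t2b.K796.Adj
import Groth.Agent.SGA3t2b.K796.GenCase
import Groth.Agent.Sga3B.BorLB3991
import Groth.Agent.Sga3B.CellOpen
import Groth.Agent.RedSub.K194.Solv
import Groth.Agent.S3900

/-!
# The Lie algebra of a Borel subgroup; characteristic polynomials of adjoint endomorphisms
-/

set_option autoImplicit false
universe u v

open CategoryTheory MonoidalCategory CartesianMonoidalCategory MonObj GrpObj AlgebraicGeometry Limits

namespace K796.BorPart

open Groth.Agent.Sga3B Cell PinMod DSPts GaPts K929.LieDict K929.LieCell K929.LieSplit K929.LieRoot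
open K796.BrkDict K796.LieDec K796.LieMod

attribute [local instance] algDD

section cell

variable {k A : Type u} [Field k] [CommRing A] [Algebra k A] [PtGrp k A] {L : Type v} [LieRing L]
    [LieAlgebra k L] (m : LMod k A L) (E : Datum k A)

lemma I_PhiL' {Ls : List E.idx} (h1 : Ls.Nodup) (h2 : ∀ a, a ∈ Ls) (ξ : E.idx → k) (f : E.M →+ k) :
    m.I (m.PhiL E (ξ, f)) = E.cell Ls (fun a => TrivSqZeroExt.inr (ξ a)) (LMod.tt f) := by
  classical
  have h3 : m.PhiL E (ξ, f) = (∑ a, ξ a • m.xa E a) + m.hh E f := by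
    change Fintype.linearCombination k (m.xa E) ξ + m.hh E f = _
    rw [Fintype.linearCombination_apply]
  rw [h3, m.I_add, LMod.I_hh]
  unfold Datum.cell
  congr 1
  have h4 : (∑ a, ξ a • m.xa E a) = (Ls.map fun a => ξ a • m.xa E a).sum := by
    rw [← List.sum_toFinset _ h1]
    refine Finset.sum_congr ?_ fun _ _ => rfl
    ext a
    simp [h2 a]
  rw [h4]
  clear h1 h2 h3 h4
  induction Ls with
  | nil => simp [m.I_zero]
  | cons a Ls ih =>
    rw [List.map_cons, List.sum_cons, m.I_add, ih, LMod.I_smul_xa, List.map_cons, List.prod_cons]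

/-- coordinates of the infinitesimal points of a product of positive root groups and of the torus -/
theorem exists_of_prod (hG : E.Good) (mu : E.M →+ ℤ) (hmu : ∀ a, mu (E.root a) ≠ 0)
    {l : List E.idx} (hl : l = (Finset.univ.filter fun a => ¬ mu (E.root a) < 0).toList)
    (y : E.idx → DualNumber k) (t : TPt E.M (DualNumber k)) (x : L)
    (h : m.I x = (l.map fun a => E.uu a (DualNumber k) (y a)).prod * E.i _ t) :
    ∃ (ξ : E.idx → k) (f : E.M →+ k), x = m.PhiL E (ξ, f) ∧
      ∀ a, mu (E.root a) ≤ 0 → ξ a = 0 := by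
  classical
  let κ : E.idx → ℤ := fun a => mu (E.root a)
  let y' : E.idx → DualNumber k := fun a => if κ a < 0 then 0 else y a
  have h1 : m.I x = E.cell (E.signList κ) y' t := by
    rw [h]
    unfold Datum.cell Datum.signList
    rw [List.map_append, List.prod_append]
    have e1 : ((Finset.univ.filter fun a => κ a < 0).toList.map
        fun a => E.uu a (DualNumber k) (y' a)).prod = 1 := by
      apply List.prod_eq_one
      intro z hz
      obtain ⟨a, ha, rfl⟩ := List.mem_map.mp hz
      rw [Finset.mem_toList, Finset.mem_filter] at ha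
      rw [show y' a = 0 from if_pos ha.2, Datum.uu_zero]
    rw [e1, _root_.one_mul, hl]
    congr 2
    apply List.map_congr_left
    intro a ha
    rw [Finset.mem_toList, Finset.mem_filter] at ha
    rw [show y' a = y a from if_neg ha.2]
  have h2 : E.cell (E.signList κ) (fun a => (tfst k k) (y' a)) (TPt.map (tfst k k) t) =
      E.cell (E.signList κ) (fun _ => (0 : k)) 1 := by
    rw [← E.cell_nat, ← h1, Datum.cell_zero, _root_.map_one]
    exact m.I_mem x
  obtain ⟨h3, h4⟩ := Datum.signCell_inj hG mu hmu h2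
  obtain ⟨f, rfl⟩ := LMod.exists_tt E (t := t) h4
  refine ⟨fun a => (y' a).snd, f, ?_, ?_⟩
  · apply m.I_inj
    rw [I_PhiL' m E (E.signList_nodup κ) (E.mem_signList κ), h1]
    congr 1
    funext a
    exact eq_inr_of_fst (congrFun h3 a)
  · intro a ha
    have h5 : κ a < 0 := lt_of_le_of_ne ha (hmu a)
    change (y' a).snd = 0
    rw [show y' a = 0 from if_pos h5]
    rfl

/-- the torus point of a cocharacter -/
noncomputable def cPt (mu : E.M →+ ℤ) (c : kˣ) : TPt E.M k :=
  (zpowersHom kˣ c).comp (AddMonoidHom.toMultiplicative mu)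

lemma ch_cPt (mu : E.M →+ ℤ) (c : kˣ) (a : E.M) : TPt.ch a (cPt E mu c) = ((c ^ mu a : kˣ) : k) := rfl

variable [Module.Finite k L]

/-- **The characteristic polynomial of the elements of a Borel subalgebra.** -/
theorem dvd_charpoly [Infinite k] (hG : E.Good) (mu : E.M →+ ℤ) (ξ : E.idx → k) (f : E.M →+ k)
    (hξ : ∀ a, mu (E.root a) ≤ 0 → ξ a = 0) :
    (Polynomial.X ^ Module.finrank k (E.M →+ k) : Polynomial k) ∣
      (LieAlgebra.ad k L (m.PhiL E (ξ, f))).charpoly := by
  classical
  let Dc := m.dec E hG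
  have h1 : (LieAlgebra.ad k L (Dc.Φ (0, f))).charpoly =
      (LieAlgebra.ad k L (m.PhiL E (ξ, f))).charpoly := by
    refine Dc.charpoly_limit ξ f (fun a => (mu (E.root a)).toNat) ?_ _ ?_
    · intro a ha h0
      apply ha
      apply hξ
      simpa using h0
    · intro c hc
      have h2 := m.Ad_PhiL E (cPt E mu (Units.mk0 c hc)) ξ f
      have h3 : Dc.Φ (fun a => c ^ (mu (E.root a)).toNat * ξ a, f) =
          m.Ad (E.i k (cPt E mu (Units.mk0 c hc))) (m.PhiL E (ξ, f)) := by
        rw [h2]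
        change m.PhiL E _ = m.PhiL E _
        congr 2
        funext a
        rw [ch_cPt]
        by_cases h4 : mu (E.root a) ≤ 0
        · rw [hξ a h4, mul_zero, mul_zero]
        · congr 1
          push Not at h4
          rw [Units.val_zpow_eq_zpow_val, Units.val_mk0]
          conv_rhs => rw [← Int.toNat_of_nonneg h4.le, zpow_natCast]
      rw [h3, charpoly_ad_equiv _ (m.Ad_lie _)]
  rw [← h1, Dc.charpoly_ad]
  exact dvd_mul_right _ _

end cell

section geom

open BorUniv829 (pr comp_pr)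

variable {k : Type u} [Field k] [IsAlgClosed k] {G : Over (Spec (CommRingCat.of k))} [GrpObj G]
  (c : Chart G (𝟙 (Spec (CommRingCat.of k)))) {L : Type v} [LieRing L] [LieAlgebra k L]
  [Module.Finite k L]
  (m : LieS.Model G k (Spec.map (CommRingCat.ofHom (algebraMap k k))) L)

omit [IsAlgClosed k] [Module.Finite k L] in
lemma pts_I (x : L) : c.pts (DualNumber k) ((ofModel c m).I x) =
    (castD (str_eq k k)).hom ≫ (m.e (Multiplicative.ofAdd x)).1 := pts_inf c (str_eq k k) _

/-- infinitesimal points of a Borel subgroup containing the maximal torus -/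
theorem dvd_of_borel (D : Red.SplitRed G) {B : Over (Spec (CommRingCat.of k))} [GrpObj B]
    (iB : B ⟶ G) (hB : Red.IsBorelOver k iB) (j : D.T ⟶ B) (hj : j ≫ iB = D.i) (x : L)
    (y : tB (𝟙 (Spec (CommRingCat.of k))) (DualNumber k) ⟶ B)
    (hy : c.pts (DualNumber k) ((ofModel c m).I x) = y ≫ iB) :
    (Polynomial.X ^ Module.finrank k (D.M →+ k) : Polynomial k) ∣
      (LieAlgebra.ad k L x).charpoly := by
  classical
  have hG : Red.IsReductiveOver k G := AlgBc.isReductive_iff.1 D.reductive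
  obtain ⟨mu, hP, hZ⟩ := BorLB3991.exists_mu D hG iB hB j hj
  have hmu : ∀ a, mu (D.P.root a) ≠ 0 := BorRP478.mu_ne_zero D mu hZ
  have hred := SplitReduced415.isReduced D
  obtain ⟨b, hb⟩ := BaseZ.exists_base_isPos D.P mu hmu
  obtain ⟨t, z, hu⟩ := (BorLB3991.isStd_of_base D mu hP hZ b hb).univ
  have h1 : y ≫ iB = pr b D.u (fun a => y ≫ z a) * ((y ≫ t) ≫ D.i) := by
    conv_lhs => rw [hu]
    rw [MonObj.comp_mul, Category.assoc]
    congr 1
    exact comp_pr b D.u y z
  choose w hw using fun a => exists_gaPt (𝟙 (Spec (CommRingCat.of k))) (y ≫ z a)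
  obtain ⟨τ, hτ⟩ := exists_chΓ (𝟙 _) ((y ≫ t) ≫ Chart.splitHom D)
  have h2 : (ofModel c m).I x = ((posList b).map fun a =>
      (c.datum D).uu a (DualNumber k) (w a)).prod * (c.datum D).i _ τ := by
    apply (c.pts (DualNumber k)).injective
    rw [hy, h1, _root_.map_mul, map_list_prod, c.pts_i, ← hτ]
    congr 1
    · unfold pr
      rw [List.map_map]
      congr 1
      apply List.map_congr_left
      intro a _
      rw [Function.comp_apply, c.pts_uu, ← hw]
    · rw [Category.assoc (y ≫ t)]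
      congr 1
      exact (Chart.splitHom_inv_assoc D D.i).symm
  have h3 : posList b = (Finset.univ.filter fun a : D.idx => ¬ mu (D.P.root a) < 0).toList := by
    unfold posList
    congr 1
    ext a
    rw [Finset.mem_filter, Finset.mem_filter]
    refine and_congr Iff.rfl ?_
    rw [hb]
    have h4 := hmu a
    omega
  obtain ⟨ξ, f, h4, h5⟩ := exists_of_prod (ofModel c m) (c.datum D) (c.good848 D) mu hmu h3 w τ x h2
  rw [h4]
  exact dvd_charpoly (ofModel c m) (c.datum D) (c.good848 D) mu ξ f h5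

omit [IsAlgClosed k] [Module.Finite k L] in
lemma pts_I_Ad (q : Pt k c.A k) (x : L) : c.pts (DualNumber k) ((ofModel c m).I ((ofModel c m).Ad q x)) =
    (tMap _ (tinl k k) ≫ c.pts k q) * c.pts (DualNumber k) ((ofModel c m).I x) *
      (tMap _ (tinl k k) ≫ c.pts k q)⁻¹ := by
  rw [LMod.I_Ad, _root_.map_mul, _root_.map_mul, _root_.map_inv, ← c.pts_nat]

include m in
/-- **The rank of the torus bounds the multiplicity of the eigenvalue zero.** -/
theorem dvd_all (D : Red.SplitRed G) (x : L) :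
    (Polynomial.X ^ Module.finrank k (D.M →+ k) : Polynomial k) ∣
      (LieAlgebra.ad k L x).charpoly := by
  obtain ⟨c⟩ := exists_chart' D
  have hG : Red.IsReductiveOver k G := AlgBc.isReductive_iff.1 D.reductive
  have h1 : IsAffine G.left := hG.1
  have h2 : Smooth G.hom := hG.2.1
  have h3 : ConnectedSpace G.left := hG.2.2.1
  have hred := SplitReduced415.isReduced D
  obtain ⟨nu, hnu⟩ := BaseZ.exists_functional D.P
  obtain ⟨B0, _, iB0, -, hB0, ⟨j, hj⟩, -⟩ := K194.Solv.exists_borel D nu.toIntLinearMap hnu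
  have hB0' : Red.IsBorelOver k iB0 := AlgBc.isBorel_iff.1 hB0
  obtain ⟨B, _, iB, _, hB, w, hw⟩ := K796.GenCase.main k G (m.e (Multiplicative.ofAdd x))
  obtain ⟨g, f, hf⟩ := Groth.Agent.S3900.result k G B0 B iB0 iB hB0' hB
  let q : Pt k c.A k := (c.pts k).symm (toUnit _ ≫ g)
  have hq : tMap _ (tinl k k) ≫ c.pts k q = toUnit _ ≫ g := by
    rw [MulEquiv.apply_symm_apply, ← Category.assoc, toUnit_unique (_ ≫ toUnit _) (toUnit _)]
  have hx : x = (ofModel c m).Ad q ((ofModel c m).Ad q⁻¹ x) := by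
    change x = (ofModel c m).AdL q ((ofModel c m).AdL q⁻¹ x)
    rw [← LMod.AdL_mul, mul_inv_cancel, LMod.AdL_one]
  rw [hx, charpoly_ad_equiv _ ((ofModel c m).Ad_lie _)]
  refine dvd_of_borel c m D iB0 hB0' j hj _ ((castD (str_eq k k)).hom ≫ w.1 ≫ f.inv) ?_
  have hv : (m.e (Multiplicative.ofAdd x)).1 = w.1 ≫ iB := by
    rw [← hw]
    rfl
  have e1 : (castD (str_eq k k)).hom ≫ w.1 ≫ iB =
      ((castD (str_eq k k)).hom ≫ w.1 ≫ f.inv) ≫ AGF.conjBy g iB0 := by
    rw [← hf]
    simp
  rw [pts_I_Ad, pts_I, hv, e1, _root_.map_inv, GrpObj.comp_inv, hq]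
  have e2 : ((castD (str_eq k k)).hom ≫ w.1 ≫ f.inv) ≫ AGF.conjBy g iB0 =
      (toUnit _ ≫ g) * (((castD (str_eq k k)).hom ≫ w.1 ≫ f.inv) ≫ iB0) * (toUnit _ ≫ g)⁻¹ := by
    rw [AGF.conjBy, MonObj.comp_mul, MonObj.comp_mul, GrpObj.comp_inv, ← Category.assoc _ (toUnit _),
      toUnit_unique (_ ≫ toUnit B0) (toUnit _)]
  rw [e2]
  group

end geom

end K796.BorPart
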