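import Groth.Agent.SGA3t2b.K796.TorusPart
import Groth.Agent.Sga3B.BaseZ
import Groth.Agent.S3027
import Groth.Agent.S2962
import Groth.Agent.Sga3B.RedBc892U

/-!
# Adjoint groups: the roots span the character group and are part of bases of it
-/

set_option autoImplicit false
universe u v

open CategoryTheory MonoidalCategory CartesianMonoidalCategory MonObj GrpObj AlgebraicGeometry Limits

namespace K796.Adj

section pure

variable {J M N : Type*} [AddCommGroup M] [AddCommGroup N] (P : RootPairing J ℤ M N) [Finite J]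
  [P.IsReduced] [Module.Free ℤ M] [Module.Finite ℤ M]

omit [Module.Free ℤ M] in
theorem exists_int_dual (hspan : Submodule.span ℤ (Set.range P.root) = ⊤) (i : J) :
    ∃ f : M →ₗ[ℤ] ℤ, f (P.root i) = 1 := by
  obtain ⟨b⟩ := Groth.Agent.Sga3B.BaseZ.nonempty_base P
  refine b.induction_reflect (p := fun i => ∃ f : M →ₗ[ℤ] ℤ, f (P.root i) = 1) i ?_ ?_ ?_
  · rintro j ⟨f, hf⟩
    refine ⟨-f, ?_⟩
    rw [P.root_reflectionPerm, P.reflection_apply_self]
    simp [hf]
  · intro j hj
    let e : P.rootSpan ℤ ≃ₗ[ℤ] M := LinearEquiv.ofTop _ hspan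
    refine ⟨(b.toWeightBasisInt.coord ⟨j, hj⟩).comp e.symm.toLinearMap, ?_⟩
    have h1 : e.symm (P.root j) = b.toWeightBasisInt ⟨j, hj⟩ := by
      rw [LinearEquiv.symm_apply_eq]
      exact (b.coe_toWeightBasisInt_apply ⟨j, hj⟩).symm
    change (b.toWeightBasisInt.coord ⟨j, hj⟩) (e.symm (P.root j)) = 1
    rw [h1, Module.Basis.coord_apply, Module.Basis.repr_self, Finsupp.single_eq_same]
  · rintro i j ⟨f, hf⟩ -
    refine ⟨f.comp (P.reflection j).toLinearMap, ?_⟩
    rw [P.root_reflectionPerm]
    change f (P.reflection j (P.reflection j (P.root i))) = 1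
    rw [P.reflection_same, hf]

theorem exists_regular {M : Type} [AddCommGroup M] (P : RootPairing J ℤ M N) [P.IsReduced]
    [Module.Free ℤ M] [Module.Finite ℤ M] (k : Type u) [Field k] [Infinite k]
    (hspan : Submodule.span ℤ (Set.range P.root) = ⊤) :
    ∃ f : M →+ k, ∀ i, f (P.root i) ≠ 0 := by
  have hfin : Module.Finite k (M →+ k) := K796.LieMod.LMod.finite_hom
  let v : J → Module.Dual k (M →+ k) := fun i =>
    { toFun := fun f => f (P.root i), map_add' := fun _ _ => rfl, map_smul' := fun _ _ => rfl }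
  have hv : ∀ i, v i ≠ 0 := by
    intro i h
    obtain ⟨f, hf⟩ := exists_int_dual P hspan i
    have h1 := congrArg (fun q : Module.Dual k (M →+ k) => q ((Int.castAddHom k).comp f.toAddMonoidHom)) h
    have h2 : ((f (P.root i) : ℤ) : k) = 0 := h1
    rw [hf] at h2
    simp at h2
  obtain ⟨F, hF⟩ := Module.exists_dual_forall_apply_ne_zero (K := k) v hv
  obtain ⟨f, rfl⟩ := (Module.evalEquiv k (M →+ k)).surjective F
  exact ⟨f, hF⟩

end pure

section geom

open Groth.Agent.Sga3B Cell PinMod DSPts GaPts K929.LieDict K929.LieCell K929.LieSplit K929.LieRoot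
open Groth.Agent.Sga3.H811.Pts (gmFn_injective gmFn_one)

variable {k : Type u} [Field k] [IsAlgClosed k] {G : Over (Spec (CommRingCat.of k))} [GrpObj G]

/-- the universal point of the subgroup killed by a subgroup of characters -/
noncomputable def uPt (k : Type u) [Field k] {M : Type} [AddCommGroup M] (Q : Submodule ℤ M) :
    TPt M (MonoidAlgebra k (Multiplicative (M ⧸ Q))) :=
  MonoidHom.toHomUnits ((MonoidAlgebra.of k (Multiplicative (M ⧸ Q))).comp
    (AddMonoidHom.toMultiplicative Q.mkQ.toAddMonoidHom))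

omit [IsAlgClosed k] in
lemma ch_uPt {M : Type} [AddCommGroup M] (Q : Submodule ℤ M) (a : M) :
    TPt.ch a (uPt k Q) = MonoidAlgebra.of k _ (Multiplicative.ofAdd (Q.mkQ a)) := rfl

theorem span_eq_top (hadj : ∀ (Z : Over (Spec (CommRingCat.of k))) [GrpObj Z] (j : Z ⟶ G),
      Red.IsCentre j → Red.IsTrivialGrp Z)
    (D : Red.SplitRed G) : Submodule.span ℤ (Set.range D.P.root) = ⊤ := by
  obtain ⟨c⟩ := exists_chart' D
  have hred : Red.IsReductiveOver k G := AlgBc.isReductive_iff.1 D.reductive
  have h1 : ConnectedSpace G.left := hred.2.2.1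
  have h2 : IsAffineHom G.hom := D.reductive.1
  have h3 : Smooth G.hom := D.reductive.2.1
  obtain ⟨Z, _, j, hj, hcl, hZ, -⟩ := Groth.Agent.S3027.result k G
  have hmono : Mono j := Groth.Agent.Books.AlgPtsGrp.mono_of_isClosedImmersion j
  have hc : Red.IsCentre j := ⟨hj, hmono, fun X g => by
     rw [hZ]
     simp only [Category.comp_id]⟩
  have htriv : IsIso Z.hom := hadj Z j hc
  -- maps to Z are unique
  have huniq : ∀ (X : Over (Spec (CommRingCat.of k))) (z z' : X ⟶ Z), z = z' := by
    intro X z z'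
    ext : 1
    rw [← cancel_mono Z.hom, Over.w, Over.w]
  set Q := Submodule.span ℤ (Set.range D.P.root) with hQ
  let t : TPt D.M (MonoidAlgebra k (Multiplicative (D.M ⧸ Q))) := uPt k Q
  have hcen := (Groth.Agent.S2962.result D _ (tPt D t ≫ D.i)).2 ⟨tPt D t, rfl, fun a => by
    apply gmFn_injective
    rw [gmFn_one]
    have h5 := chiVal_tPt D (D.P.root a) t
    have h6 : TPt.ch (D.P.root a) t = 1 := by
      rw [ch_uPt]
      have h7 : Q.mkQ (D.P.root a) = 0 := by
        rw [Submodule.mkQ_apply, Submodule.Quotient.mk_eq_zero, hQ]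
        exact Submodule.subset_span ⟨a, rfl⟩
      rw [h7, ofAdd_zero, _root_.map_one]
    rw [h6] at h5
    unfold VecGrp.chiVal at h5
    have hinj : Function.Injective (Scheme.ΓSpecIso
        (CommRingCat.of (MonoidAlgebra k (Multiplicative (D.M ⧸ Q))))).hom :=
      (ConcreteCategory.bijective_of_isIso _).1
    apply hinj
    rw [_root_.map_one, ← h5]⟩
  obtain ⟨z, hz⟩ := (hZ _ _).2 hcen
  have h8 : tPt D t ≫ D.i = 1 := by
    rw [← hz, huniq _ z 1]
    exact (IsMonHom.monoidHom j _).map_one
  have h9 : t = 1 := by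
    have e1 : (c.datum D).i _ t = 1 := by
      apply (c.pts _).injective
      rw [pts_i_tPt c D t, h8, MonObj.comp_one, _root_.map_one]
    exact (c.datum D).i_inj _ (e1.trans (_root_.map_one _).symm)
  rw [eq_top_iff]
  intro a _
  have h10 := congrArg (TPt.ch a) h9
  rw [ch_uPt, TPt.ch_one] at h10
  have h11 : Multiplicative.ofAdd (Q.mkQ a) = 1 := by
    apply MonoidAlgebra.of_injective (R := k)
    rw [h10, _root_.map_one]
  have h12 : Q.mkQ a = 0 := h11
  rwa [Submodule.mkQ_apply, Submodule.Quotient.mk_eq_zero] at h12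

end geom

end K796.Adj
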