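import Groth.Agent.SGA3t2b.K796.Agree
import Groth.Agent.AGF.K492.Basic
import Groth.Agent.AGF.K497.OrbClos
import Groth.Agent.Sga3C.ActBase
import Groth.Agent.Sga3B.BcPts
import Groth.Agent.Sga3B.RadOpen.Main
import Groth.Agent.S3276
import Groth.Agent.S3910

/-!
# Points with values in algebraically closed extensions fix points of proper schemes
-/

set_option autoImplicit false

universe u

open CategoryTheory MonoidalCategory CartesianMonoidalCategory MonObj GrpObj AlgebraicGeometry
open K796.Agree Groth.Agent.Sga3C.Transl Groth.Agent.Sga3B.BcPts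

namespace K796.AffFix

section bcAct

variable {S S' : Scheme.{u}} (t : S' ⟶ S) {G X : Over S} [GrpObj G]

theorem bcEquiv_symm_act (a : AlgGrp.Action G X) {T : Over S'} (g : T ⟶ Red.bc t G)
    (x : T ⟶ Red.bc t X) :
    (bcEquiv t T X).symm (lift g x ≫ (Groth.Agent.Sga3C.ActBase.baseAct t a).act) =
      lift ((bcEquiv t T G).symm g) ((bcEquiv t T X).symm x) ≫ a.act := by
  have h1 : (Groth.Agent.Sga3C.ActBase.baseAct t a).act =
      Functor.LaxMonoidal.μ (Over.pullback t) G X ≫ (Over.pullback t).map a.act := rfl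
  rw [h1, ← Category.assoc, bcEquiv_symm_comp]
  congr 1
  apply CartesianMonoidalCategory.hom_ext
  · rw [← bcEquiv_symm_comp, lift_fst, Category.assoc, Functor.Monoidal.μ_fst, lift_fst]
  · rw [← bcEquiv_symm_comp, lift_snd, Category.assoc, Functor.Monoidal.μ_snd, lift_snd]

end bcAct

variable {k : Type u} [Field k]

theorem exists_fixed_F (G X : Over (Spec (CommRingCat.of k))) [GrpObj G] [IsAffine G.left]
    [Smooth G.hom] [ConnectedSpace G.left] [IsProper X.hom] [Nonempty X.left]
    (a : AlgGrp.Action G X) (F : Type u) [Field F] [IsAlgClosed F] (s : k →+* F) (g : tp s ⟶ G) :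
    ∃ y : tp s ⟶ X, lift g y ≫ a.act = y := by
  let t : Spec (CommRingCat.of F) ⟶ Spec (CommRingCat.of k) := Spec.map (CommRingCat.ofHom s)
  let κ : (Over.map t).obj (𝟙_ (Over (Spec (CommRingCat.of F)))) ≅ tp s :=
    Over.isoMk (Iso.refl _) (by simp [t])
  let GF := Red.bc t G
  let XF := Red.bc t X
  have i1 : IsAffine GF.left := by
    change IsAffine (Limits.pullback G.hom t)
    infer_instance
  have i2 : Smooth GF.hom := by
    change Smooth (Limits.pullback.snd G.hom t)
    infer_instance
  have i3 : ConnectedSpace GF.left := by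
    apply Groth.Agent.Sga3B.RadOpen.connectedSpace_bc
    intro z
    have h : G.hom.base ⁻¹' {z} = Set.univ := by
      ext w
      simp only [Set.mem_preimage, Set.mem_singleton_iff, Set.mem_univ, iff_true]
      exact Subsingleton.elim _ _
    rw [h]
    exact isConnected_univ
  have i4 : IsProper XF.hom := by
    change IsProper (Limits.pullback.snd X.hom t)
    infer_instance
  have i5 : Nonempty XF.left := by
    have hs : Surjective (Limits.pullback.fst X.hom t) := by
      have : Surjective t := inferInstance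
      infer_instance
    obtain ⟨x⟩ := (inferInstance : Nonempty X.left)
    obtain ⟨y, -⟩ := hs.surj x
    exact ⟨y⟩
  let aF : AlgGrp.Action GF XF := Groth.Agent.Sga3C.ActBase.baseAct t a
  obtain ⟨B, _, b, hb⟩ := K492.Basic.exists_isBorelOver GF
  have j1 : IsMonHom b := hb.1
  have j2 : IsClosedImmersion b.left := hb.2.1
  have j3 : Smooth B.hom := hb.2.2.1
  have j4 : ConnectedSpace B.left := hb.2.2.2.1
  have j5 : IsAffine B.left := K492.Basic.isAffine_of_isClosedImmersion b
  have j6 : Group.IsSolvable (𝟙_ (Over (Spec (CommRingCat.of F))) ⟶ B) := by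
    obtain ⟨n, hn⟩ := hb.2.2.2.2.1
    exact ⟨⟨n, hn _⟩⟩
  let g' : 𝟙_ (Over (Spec (CommRingCat.of F))) ⟶ GF := bcEquiv t _ G (κ.hom ≫ g)
  obtain ⟨x, c, hxc⟩ := Groth.Agent.S3910.result F GF B b hb g'
  obtain ⟨z, hz⟩ := Groth.Agent.S3276.result F B XF (K497.OrbClos.restrict aF b)
  have hz1 : lift (c ≫ b) z ≫ aF.act = z := by
    have h := hz _ c
    rw [K497.OrbClos.lift_restrict_act] at h
    have h2 : toUnit (𝟙_ (Over (Spec (CommRingCat.of F)))) ≫ z = z := by
      rw [toUnit_unique (toUnit _) (𝟙 _), Category.id_comp]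
    rwa [h2] at h
  let y' : 𝟙_ (Over (Spec (CommRingCat.of F))) ⟶ XF := lift x z ≫ aF.act
  have hy' : lift g' y' ≫ aF.act = y' := by
    change lift g' (lift x z ≫ aF.act) ≫ aF.act = lift x z ≫ aF.act
    rw [← lift_mul_act, ← hxc, inv_mul_cancel_right, lift_mul_act, hz1]
  have h3 := congrArg (bcEquiv t _ X).symm hy'
  have h4 := bcEquiv_symm_act t a g' y'
  have h5 : lift ((bcEquiv t _ G).symm g') ((bcEquiv t _ X).symm y') ≫ a.act =
      (bcEquiv t _ X).symm y' := h4.symm.trans h3
  have h6 : (bcEquiv t _ G).symm g' = κ.hom ≫ g := Equiv.symm_apply_apply _ _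
  rw [h6] at h5
  refine ⟨κ.inv ≫ (bcEquiv t _ X).symm y', ?_⟩
  rw [← cancel_epi κ.hom, comp_lift_act, Iso.hom_inv_id_assoc, h5]

end K796.AffFix
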