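import Groth.Agent.SGA3t2b.K796.FixPt
import Groth.Agent.SGA3t2b.K796.AffFix
import Groth.Agent.Agf.H609.MaxTorSch
import Groth.Agent.S3899
import Groth.Agent.S3279

/-!
# Every element of the Lie algebra lies in the Lie algebra of a Borel subgroup: affine connected
groups
-/

set_option autoImplicit false

universe u

open CategoryTheory MonoidalCategory CartesianMonoidalCategory MonObj GrpObj AlgebraicGeometry
open K796.Agree Groth.Agent.Sga3C.Transl

namespace K796.AffCase

section dict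

variable (k : Type u) [Field k]

/-- the dual number object as a test object -/
noncomputable def dIso : LieS.dpt k (Spec.map (CommRingCat.ofHom (algebraMap k k))) ≅
    tp (algebraMap k (DualNumber k)) :=
  Over.isoMk (Iso.refl (Spec (CommRingCat.of (DualNumber k)))) (by
    change 𝟙 _ ≫ Spec.map _ = Spec.map _ ≫ Spec.map _
    rw [Category.id_comp, LieS.specMap_comp, LieS.algebraMap_comp_eq])

/-- the point object as a test object -/
noncomputable def pIso : LieS.pt k (Spec.map (CommRingCat.ofHom (algebraMap k k))) ≅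
    tp (RingHom.id k) :=
  Over.isoMk (Iso.refl (Spec (CommRingCat.of k))) (by
    change 𝟙 _ ≫ Spec.map _ = Spec.map _
    rw [Category.id_comp])

/-- the unit object as a test object -/
noncomputable def uIso : 𝟙_ (Over (Spec (CommRingCat.of k))) ≅ tp (RingHom.id k) :=
  Over.isoMk (Iso.refl (Spec (CommRingCat.of k))) (by
    change 𝟙 _ ≫ Spec.map (CommRingCat.ofHom (RingHom.id k)) = 𝟙 _
    rw [Category.id_comp]
    exact Spec.map_id _)

theorem zeroSec_dIso : LieS.zeroSec k (Spec.map (CommRingCat.ofHom (algebraMap k k))) ≫ (dIso k).hom =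
    (pIso k).hom ≫ tm (s' := RingHom.id k) (TrivSqZeroExt.fstHom k k k).toRingHom
      (LieS.fstHom_comp_algebraMap k) := by
  ext1
  change Spec.map _ ≫ 𝟙 _ = 𝟙 _ ≫ Spec.map _
  rw [Category.comp_id, Category.id_comp]

end dict

variable (k : Type u) [Field k] [IsAlgClosed k]

/-- **Every element of `Lie(G)` lies in the Lie algebra of a Borel subgroup**, `G` affine smooth
connected. -/
theorem main (G : Over (Spec (CommRingCat.of k))) [GrpObj G] [IsAffine G.left] [Smooth G.hom]
    [ConnectedSpace G.left] (v : ↥(LieS.LieR G k)) :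
    ∃ (B : Over (Spec (CommRingCat.of k))) (_ : GrpObj B) (i : B ⟶ G) (_ : IsMonHom i),
      Red.IsBorelOver k i ∧ ∃ w : ↥(LieS.LieR B k),
        LieS.map k (Spec.map (CommRingCat.ofHom (algebraMap k k))) i w = v := by
  obtain ⟨B, _, b, hb⟩ := K492.Basic.exists_isBorelOver G
  have j1 : IsMonHom b := hb.1
  have j2 : IsClosedImmersion b.left := hb.2.1
  have j3 : Smooth B.hom := hb.2.2.1
  have j5 : IsAffine B.left := K492.Basic.isAffine_of_isClosedImmersion b
  have j6 : Mono b := Over.mono_of_mono_left _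
  obtain ⟨X, a, o, h1, h2, h3, h4, h5⟩ := Groth.Agent.S3279.result k G B b
  have hX : AGF.IsQuotient b X a o := ⟨h1, h3, h4, h5⟩
  have hp : IsProper X.hom := Groth.Agent.S3899.result k G B b hb X a o hX
  have hne : Nonempty X.left := ⟨o.left (IsLocalRing.closedPoint k)⟩
  let sE : k →+* DualNumber k := algebraMap k (DualNumber k)
  let v' : tp sE ⟶ G := (dIso k).inv ≫ v.1
  have hv : tm (s' := RingHom.id k) (TrivSqZeroExt.fstHom k k k).toRingHom
      (LieS.fstHom_comp_algebraMap k) ≫ v' = 1 := by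
    have h : LieS.zeroSec k (Spec.map (CommRingCat.ofHom (algebraMap k k))) ≫ v.1 = 1 := v.2
    rw [← cancel_epi (pIso k).hom, ← Category.assoc, ← zeroSec_dIso, Category.assoc,
      Iso.hom_inv_id_assoc, h, MonObj.comp_one]
  obtain ⟨y₀, hy₀⟩ := FixPt.exists_fixed G X a
    (fun F _ _ s g => AffFix.exists_fixed_F G X a F s g) v' hv
  -- the base point
  obtain ⟨g₀, hg₀⟩ := Groth.Agent.Agf.H609.MaxTorSch.exists_lift_pt (a.orbitMap o) ((uIso k).hom ≫ y₀)
  rw [K497.OrbClos.comp_orbitMap] at hg₀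
  have htu : toUnit (𝟙_ (Over (Spec (CommRingCat.of k)))) ≫ o = o := by
    rw [toUnit_unique (toUnit _) (𝟙 _), Category.id_comp]
  rw [htu] at hg₀
  let gE : tp sE ⟶ G := toUnit _ ≫ g₀
  let oE : tp sE ⟶ X := toUnit _ ≫ o
  have hyE : tm (s := RingHom.id k) sE (RingHom.comp_id _) ≫ y₀ = lift gE oE ≫ a.act := by
    have e : toUnit (tp sE) = tm (s := RingHom.id k) sE (RingHom.comp_id _) ≫ (uIso k).inv :=
      toUnit_unique _ _
    have : lift gE oE ≫ a.act = toUnit (tp sE) ≫ lift g₀ o ≫ a.act := by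
      rw [comp_lift_act]
    rw [this, hg₀, e, Category.assoc, Iso.inv_hom_id_assoc]
  have hfix : lift (gE⁻¹ * v' * gE) oE ≫ a.act = oE := by
    rw [lift_mul_act, ← hyE, lift_mul_act, hy₀, hyE, ← lift_mul_act, inv_mul_cancel, lift_one_act]
  -- factor through `B`
  have hfac : ∃ w : tp sE ⟶ B, w ≫ b = gE⁻¹ * v' * gE := by
    have hc : (1 : tp sE ⟶ G) ≫ a.orbitMap o = (gE⁻¹ * v' * gE) ≫ a.orbitMap o := by
      rw [K497.OrbClos.comp_orbitMap, K497.OrbClos.comp_orbitMap, lift_one_act]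
      exact hfix.symm
    obtain ⟨l, hl1, hl2⟩ := h5.exists_lift _ _ hc
    refine ⟨l ≫ snd G B, ?_⟩
    have e1 : l = lift (l ≫ fst G B) (l ≫ snd G B) := by
      apply CartesianMonoidalCategory.hom_ext <;> simp
    have e2 : lift (l ≫ fst G B) (l ≫ snd G B) ≫ (G ◁ b) ≫ μ[G] =
        (l ≫ fst G B) * ((l ≫ snd G B) ≫ b) := by
      rw [← Category.assoc, lift_whiskerLeft, Hom.mul_def]
    rw [← hl2, e1, e2, ← e1, hl1, _root_.one_mul]
  obtain ⟨w, hw⟩ := hfac
  let i : B ⟶ G := AGF.conjBy g₀ b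
  have hi : Red.IsBorelOver k i := K492.Basic.isBorelOver_conjBy hb g₀
  have hiM : IsMonHom i := hi.1
  have hiC : IsClosedImmersion i.left := hi.2.1
  have hiMono : Mono i := Over.mono_of_mono_left _
  have hwi : w ≫ i = v' := by
    change w ≫ AGF.conjBy g₀ b = v'
    rw [Groth.Agent.Agf.H582.ConjDict.comp_conjBy, hw]
    change gE * (gE⁻¹ * v' * gE) * gE⁻¹ = v'
    group
  refine ⟨B, inferInstance, i, hiM, hi, ⟨(dIso k).hom ≫ w, ?_⟩, ?_⟩
  · rw [LieS.mem_Lie_iff, ← cancel_mono i, Category.assoc, Category.assoc, hwi, MonObj.one_comp]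
    change _ ≫ (dIso k).hom ≫ (dIso k).inv ≫ v.1 = 1
    rw [Iso.hom_inv_id_assoc]
    exact v.2
  · apply Subtype.ext
    change ((dIso k).hom ≫ w) ≫ i = v.1
    rw [Category.assoc, hwi]
    exact Iso.hom_inv_id_assoc _ _

end K796.AffCase
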