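import Mathlib.AlgebraicGeometry.Morphisms.ClosedImmersion
import Mathlib.AlgebraicGeometry.Morphisms.Separated
import Groth.Prelude.Def_LieS

/-!
# Agreement of two morphisms to a separated scheme on affine test schemes; affine test objects
-/

set_option autoImplicit false

universe u

open CategoryTheory Limits AlgebraicGeometry

namespace K796.Agree

/-- Two morphisms `Spec R ⟶ X` to a separated scheme agreeing modulo `ker φ₁` and modulo `ker φ₂`
agree modulo `ker ψ` as soon as `ker φ₁ ∩ ker φ₂ ⊆ ker ψ`. -/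
theorem agree {S X : Scheme.{u}} (p : X ⟶ S) [IsSeparated p] {R R₁ R₂ R' : Type u} [CommRing R]
    [CommRing R₁] [CommRing R₂] [CommRing R'] (x y : Spec (CommRingCat.of R) ⟶ X)
    (h : x ≫ p = y ≫ p) (φ₁ : R →+* R₁) (φ₂ : R →+* R₂) (ψ : R →+* R')
    (h₁ : Spec.map (CommRingCat.ofHom φ₁) ≫ x = Spec.map (CommRingCat.ofHom φ₁) ≫ y)
    (h₂ : Spec.map (CommRingCat.ofHom φ₂) ≫ x = Spec.map (CommRingCat.ofHom φ₂) ≫ y)
    (hk : RingHom.ker φ₁ ⊓ RingHom.ker φ₂ ≤ RingHom.ker ψ) :
    Spec.map (CommRingCat.ofHom ψ) ≫ x = Spec.map (CommRingCat.ofHom ψ) ≫ y := by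
  let Z := pullback (pullback.diagonal p) (pullback.lift x y h)
  let g : Z ⟶ Spec (CommRingCat.of R) := pullback.snd _ _
  have hg : IsClosedImmersion g := MorphismProperty.pullback_snd _ _ inferInstance
  have hgx : g ≫ x = g ≫ y := by
    have h1 : g ≫ x = pullback.fst (pullback.diagonal p) (pullback.lift x y h) := by
      have := pullback.condition (f := pullback.diagonal p) (g := pullback.lift x y h) =≫
        pullback.fst p p
      rw [Category.assoc, Category.assoc, pullback.diagonal_fst, Category.comp_id,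
        pullback.lift_fst x y h] at this
      exact this.symm
    have h2 : g ≫ y = pullback.fst (pullback.diagonal p) (pullback.lift x y h) := by
      have := pullback.condition (f := pullback.diagonal p) (g := pullback.lift x y h) =≫
        pullback.snd p p
      rw [Category.assoc, Category.assoc, pullback.diagonal_snd, Category.comp_id,
        pullback.lift_snd x y h] at this
      exact this.symm
    rw [h1, h2]
  obtain ⟨I, e, he⟩ := IsClosedImmersion.Spec_iff.1 hg
  have key : ∀ {R₀ : Type u} [CommRing R₀] (φ : R →+* R₀),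
      Spec.map (CommRingCat.ofHom φ) ≫ x = Spec.map (CommRingCat.ofHom φ) ≫ y → I ≤ RingHom.ker φ := by
    intro R₀ _ φ hφ
    let l : Spec (CommRingCat.of R₀) ⟶ Z := pullback.lift (Spec.map (CommRingCat.ofHom φ) ≫ x)
      (Spec.map (CommRingCat.ofHom φ)) (by
        apply pullback.hom_ext
        · rw [Category.assoc, pullback.diagonal_fst, Category.comp_id, Category.assoc,
            pullback.lift_fst x y h]
        · rw [Category.assoc, pullback.diagonal_snd, Category.comp_id, Category.assoc,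
            pullback.lift_snd x y h, hφ])
    have hl : l ≫ g = Spec.map (CommRingCat.ofHom φ) := pullback.lift_snd _ _ _
    obtain ⟨θ, hθ⟩ := Spec.map_surjective (l ≫ e.hom)
    have h3 : Spec.map (CommRingCat.ofHom φ) =
        Spec.map (CommRingCat.ofHom (Ideal.Quotient.mk I) ≫ θ) := by
      rw [Spec.map_comp, hθ, Category.assoc, ← he, hl]
    have h4 := Spec.map_injective h3
    intro i hi
    have h5 : φ i = θ.hom (Ideal.Quotient.mk I i) := congrArg (fun q => q.hom i) h4
    rw [RingHom.mem_ker, h5, Ideal.Quotient.eq_zero_iff_mem.2 hi, map_zero]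
  have hI : I ≤ RingHom.ker ψ := (le_inf (key φ₁ h₁) (key φ₂ h₂)).trans hk
  have h6 : Spec.map (CommRingCat.ofHom ψ) =
      Spec.map (CommRingCat.ofHom (Ideal.Quotient.lift I ψ (fun a ha => hI ha))) ≫ e.inv ≫ g := by
    rw [he, Iso.inv_hom_id_assoc, ← Spec.map_comp, ← CommRingCat.ofHom_comp]
    congr 2
  rw [h6]
  simp only [Category.assoc, hgx]

section TP

variable {k : Type u} [CommRing k]

/-- The affine test scheme given by a ring homomorphism. -/
noncomputable abbrev tp {R : Type u} [CommRing R] (s : k →+* R) : Over (Spec (CommRingCat.of k)) :=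
  Over.mk (Spec.map (CommRingCat.ofHom s))

/-- The morphism of affine test schemes given by a ring homomorphism. -/
noncomputable def tm {R R' : Type u} [CommRing R] [CommRing R'] {s : k →+* R} {s' : k →+* R'} (φ : R →+* R')
    (h : φ.comp s = s') : tp s' ⟶ tp s :=
  Over.homMk (Spec.map (CommRingCat.ofHom φ)) (by
    change Spec.map _ ≫ Spec.map _ = Spec.map _
    rw [LieS.specMap_comp, h])

@[simp] lemma tm_left {R R' : Type u} [CommRing R] [CommRing R'] {s : k →+* R} {s' : k →+* R'}
    (φ : R →+* R') (h : φ.comp s = s') : (tm φ h).left = Spec.map (CommRingCat.ofHom φ) := rfl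

lemma tm_comp {R R' R'' : Type u} [CommRing R] [CommRing R'] [CommRing R''] {s : k →+* R}
    {s' : k →+* R'} {s'' : k →+* R''} (φ : R →+* R') (h : φ.comp s = s') (ψ : R' →+* R'')
    (h' : ψ.comp s' = s'') : tm ψ h' ≫ tm φ h = tm (ψ.comp φ) (by rw [RingHom.comp_assoc, h, h']) := by
  ext1
  exact LieS.specMap_comp _ _

lemma tm_comp_assoc {R R' R'' : Type u} [CommRing R] [CommRing R'] [CommRing R''] {s : k →+* R}
    {s' : k →+* R'} {s'' : k →+* R''} (φ : R →+* R') (h : φ.comp s = s') (ψ : R' →+* R'')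
    (h' : ψ.comp s' = s'') {Z : Over (Spec (CommRingCat.of k))} (z : tp s ⟶ Z) :
    tm ψ h' ≫ tm φ h ≫ z = tm (ψ.comp φ) (by rw [RingHom.comp_assoc, h, h']) ≫ z := by
  rw [← Category.assoc, tm_comp]

lemma tm_id {R : Type u} [CommRing R] {s : k →+* R} (h : (RingHom.id R).comp s = s) :
    tm (RingHom.id R) h = 𝟙 _ := by
  ext1
  change Spec.map (CommRingCat.ofHom (RingHom.id R)) = 𝟙 _
  exact Spec.map_id _

lemma tm_congr {R R' : Type u} [CommRing R] [CommRing R'] {s : k →+* R} {s' : k →+* R'}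
    {φ ψ : R →+* R'} (e : φ = ψ) (h : φ.comp s = s') : tm φ h = tm ψ (e ▸ h) := by
  subst e; rfl

/-- agreement for test objects -/
theorem agree_tm {X : Over (Spec (CommRingCat.of k))} [IsSeparated X.hom] {R R₁ R₂ R' : Type u}
    [CommRing R] [CommRing R₁] [CommRing R₂] [CommRing R'] {s : k →+* R} {s₁ : k →+* R₁}
    {s₂ : k →+* R₂} {s' : k →+* R'} (x y : tp s ⟶ X) (φ₁ : R →+* R₁) (e₁ : φ₁.comp s = s₁)
    (φ₂ : R →+* R₂) (e₂ : φ₂.comp s = s₂) (ψ : R →+* R') (e' : ψ.comp s = s')
    (h₁ : tm φ₁ e₁ ≫ x = tm φ₁ e₁ ≫ y) (h₂ : tm φ₂ e₂ ≫ x = tm φ₂ e₂ ≫ y)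
    (hk : RingHom.ker φ₁ ⊓ RingHom.ker φ₂ ≤ RingHom.ker ψ) : tm ψ e' ≫ x = tm ψ e' ≫ y := by
  ext1
  refine agree X.hom x.left y.left ?_ φ₁ φ₂ ψ ?_ ?_ hk
  · rw [Over.w x, Over.w y]
  · exact congrArg (fun q => q.left) h₁
  · exact congrArg (fun q => q.left) h₂

end TP

end K796.Agree
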