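import Groth.Agent.LieWt.K929.LieSplit
import Groth.Agent.LieS.K988.Brk

/-!
# The bracket of the Lie algebra of a group scheme in an affine chart
-/

set_option autoImplicit false
universe u

open CategoryTheory MonoidalCategory CartesianMonoidalCategory MonObj GrpObj AlgebraicGeometry Limits

namespace K796.BrkDict

open Groth.Agent.Sga3B Cell PinMod DSPts GaPts K929.LieDict K929.LieCell K929.LieSplit
open K988.LieCalc (ev rm)
open K988.LieBrk (DD tD E1 E2 E1_sq E2_sq E12_sq cm)

section alg

variable {R B C : Type u} [CommRing R] [CommRing B] [Algebra R B] [CommRing C] [Algebra R C]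

/-- evaluation of dual numbers at a square-zero element as an algebra map -/
noncomputable def evA (h : B →+* C) (hh : h.comp (algebraMap R B) = algebraMap R C) (e : C)
    (he : e * e = 0) : DualNumber B →ₐ[R] C :=
  { LieS.dualHom h e he with
    commutes' := fun r => by
      change LieS.dualHom h e he (algebraMap R (DualNumber B) r) = algebraMap R C r
      have h1 : algebraMap R (DualNumber B) r = algebraMap B (DualNumber B) (algebraMap R B r) :=
        (congrArg (fun q => q r) (LieS.algebraMap_comp_eq (R := R) B)).symm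
      rw [h1, ← hh]
      exact congrArg (fun q => q (algebraMap R B r)) (LieS.dualHom_comp_algebraMap h e he) }

lemma coe_evA (h : B →+* C) (hh : h.comp (algebraMap R B) = algebraMap R C) (e : C)
    (he : e * e = 0) : ((evA h hh e he : DualNumber B →ₐ[R] C) : DualNumber B →+* C) =
      LieS.dualHom h e he := rfl

@[simp] lemma evA_apply (h : B →+* C) (hh : h.comp (algebraMap R B) = algebraMap R C) (e : C)
    (he : e * e = 0) (x : DualNumber B) : evA (R := R) h hh e he x = h x.fst + h x.snd * e := rfl

end alg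

section cast

variable {S : Scheme.{u}} {R : Type u} [CommRing R] {s : Spec (CommRingCat.of R) ⟶ S}
variable {B C : Type u} [CommRing B] [Algebra R B] [CommRing C] [Algebra R C]
variable {f : Spec (CommRingCat.of B) ⟶ S}

/-- `Spec C` as an `S`-scheme -/
noncomputable def castQ (hf : f = Spec.map (CommRingCat.ofHom (algebraMap R B)) ≫ s) (h : B →+* C)
    (hh : h.comp (algebraMap R B) = algebraMap R C) : tB s C ≅ K988.LieCalc.Pt f h :=
  Over.isoMk (Iso.refl (Spec (CommRingCat.of C))) (by
    change 𝟙 _ ≫ Spec.map _ ≫ f = Spec.map _ ≫ s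
    rw [Category.id_comp, hf, ← Category.assoc, LieS.specMap_comp, hh])

lemma castQ_ev (hf : f = Spec.map (CommRingCat.ofHom (algebraMap R B)) ≫ s) (h : B →+* C)
    (hh : h.comp (algebraMap R B) = algebraMap R C) (e : C) (he : e * e = 0) :
    (castQ hf h hh).hom ≫ ev f h e he = tMap s (evA h hh e he) ≫ (castD hf).hom := by
  ext
  change 𝟙 _ ≫ Spec.map _ = Spec.map _ ≫ 𝟙 _
  rw [Category.comp_id, Category.id_comp]
  rfl

variable {G : Over S} [GrpObj G] (c : Chart G s)

lemma pts_ev (hf : f = Spec.map (CommRingCat.ofHom (algebraMap R B)) ≫ s) (h : B →+* C)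
    (hh : h.comp (algebraMap R B) = algebraMap R C) (e : C) (he : e * e = 0) (x : LieS.Lie G B f) :
    c.pts _ (Pt.map (evA h hh e he) (inf c hf x)) = (castQ hf h hh).hom ≫ ev f h e he ≫ x.1 := by
  rw [← c.pts_nat, pts_inf, ← Category.assoc, ← castQ_ev hf h hh e he, Category.assoc]

end cast

section main

variable {S : Scheme.{u}} {G : Over S} [GrpObj G] {R : Type u} [CommRing R]
  {s : Spec (CommRingCat.of R) ⟶ S} (c : Chart G s)
variable {B : Type u} [CommRing B] [Algebra R B]
variable {f : Spec (CommRingCat.of B) ⟶ S}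

/-- the algebra structure on the iterated dual numbers -/
@[reducible] noncomputable def algDD (R B : Type u) [CommRing R] [CommRing B] [Algebra R B] :
    Algebra R (DD B) := ((tD B).comp (algebraMap R B)).toAlgebra

attribute [local instance] algDD

lemma tD_comp (R B : Type u) [CommRing R] [CommRing B] [Algebra R B] :
    (tD B).comp (algebraMap R B) = algebraMap R (DD B) := rfl

/-- `ε ↦ ε ε'` -/
noncomputable abbrev a12 (R B : Type u) [CommRing R] [CommRing B] [Algebra R B] :
    DualNumber B →ₐ[R] DD B := evA (tD B) (tD_comp R B) (E1 B * E2 B) (E12_sq B)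

/-- `ε ↦ ε` -/
noncomputable abbrev a1 (R B : Type u) [CommRing R] [CommRing B] [Algebra R B] :
    DualNumber B →ₐ[R] DD B := evA (tD B) (tD_comp R B) (E1 B) (E1_sq B)

/-- `ε ↦ ε'` -/
noncomputable abbrev a2 (R B : Type u) [CommRing R] [CommRing B] [Algebra R B] :
    DualNumber B →ₐ[R] DD B := evA (tD B) (tD_comp R B) (E2 B) (E2_sq B)

/-- **The bracket in a chart.** -/
theorem isBracket_iff (hf : f = Spec.map (CommRingCat.ofHom (algebraMap R B)) ≫ s)
    (x y z : LieS.Lie G B f) : LieS.IsBracket G B f x y z ↔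
      Pt.map (a12 R B) (inf c hf z) =
        cm (Pt.map (a2 R B) (inf c hf x)) (Pt.map (a1 R B) (inf c hf y)) := by
  rw [K988.LieBrk.isBracket_iff, ← (c.pts _).injective.eq_iff]
  have h1 : c.pts (DD B) (cm (Pt.map (a2 R B) (inf c hf x)) (Pt.map (a1 R B) (inf c hf y))) =
      cm (c.pts (DD B) (Pt.map (a2 R B) (inf c hf x)))
        (c.pts (DD B) (Pt.map (a1 R B) (inf c hf y))) := by
    simp only [cm, map_mul, map_inv]
  rw [h1, pts_ev, pts_ev, pts_ev, ← K988.LieBrk.comp_cm, cancel_epi]

end main

end K796.BrkDict
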