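import Groth.Agent.SGA3t2b.K796.AffCase
import Groth.Agent.AlgGrp.K411.HomKit
import Groth.Agent.AlgGrp.K399.Hull
import Groth.Agent.Sga3.H821.ExtConn
import Groth.Agent.S4107
import Groth.Agent.S7996
import Groth.Agent.S3023

/-!
# Every element of the Lie algebra lies in the Lie algebra of a Borel subgroup: general case
-/

set_option autoImplicit false

universe u

open CategoryTheory MonoidalCategory CartesianMonoidalCategory MonObj GrpObj AlgebraicGeometry
open Groth.Agent.AlgGrp.K411 Groth.Agent.Sga3B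

namespace K796.ConnCase

section general

variable {S : Scheme.{u}}

/-- an extension of a solvable group by a central subgroup is solvable -/
theorem isSolvableGrp_of_central {P B : Over S} [GrpObj P] [GrpObj B] (π : P ⟶ B) [IsMonHom π]
    (hB : Red.IsSolvableGrp B)
    (hc : ∀ (X : Over S) (x y : X ⟶ P), x ≫ π = 1 → x * y = y * x) : Red.IsSolvableGrp P := by
  obtain ⟨n, hn⟩ := hB
  refine ⟨n + 1, fun X => ?_⟩
  let f : (X ⟶ P) →* (X ⟶ B) := IsMonHom.monoidHom π X
  have h1 : derivedSeries (X ⟶ P) n ≤ f.ker := by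
    rw [← MonoidHom.comap_bot, ← Subgroup.map_le_iff_le_comap]
    exact (map_derivedSeries_le_derivedSeries f n).trans (hn X).le
  rw [derivedSeries_succ, eq_bot_iff, Subgroup.commutator_le]
  intro x hx y hy
  rw [Subgroup.mem_bot, commutatorElement_eq_one_iff_mul_comm]
  exact hc X x y (h1 hx)

/-- A morphism from a reduced scheme factors through a closed immersion as soon as it does so after
composition with a surjective morphism. -/
theorem exists_factor {P B C Q : Over S} (p : P ⟶ B) [Surjective p.left] [IsReduced B.left]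
    (b : B ⟶ Q) (c : C ⟶ Q) [IsClosedImmersion c.left] (q : P ⟶ C) (h : p ≫ b = q ≫ c) :
    ∃ f : B ⟶ C, f ≫ c = b := by
  let Z := Limits.pullback b.left c.left
  let z : Z ⟶ B.left := Limits.pullback.fst b.left c.left
  have h1 : Surjective z := by
    let l : P.left ⟶ Z := Limits.pullback.lift p.left q.left (by
        rw [← Over.comp_left, ← Over.comp_left, h])
    have h2 : l ≫ z = p.left := Limits.pullback.lift_fst _ _ _
    have h3 : Surjective (l ≫ z) := by rw [h2]; infer_instance
    exact Surjective.of_comp l z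
  have h4 : IsIso z := isIso_of_isClosedImmersion_of_surjective z
  have h5 : (inv z ≫ Limits.pullback.snd b.left c.left) ≫ c.left = b.left := by
    rw [Category.assoc, ← Limits.pullback.condition, ← Category.assoc, IsIso.inv_hom_id,
      Category.id_comp]
  refine ⟨Over.homMk (inv z ≫ Limits.pullback.snd b.left c.left) ?_, ?_⟩
  · rw [← Over.w c, ← Category.assoc, h5, Over.w b]
  · ext1
    exact h5

end general

variable {k : Type u} [Field k] [IsAlgClosed k]

/-- Inverse images of Borel subgroups under flat surjective homomorphisms with smooth connected central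
kernel are Borel subgroups. -/
theorem isBorelOver_pre {G Q B : Over (Spec (CommRingCat.of k))} [GrpObj G] [GrpObj Q] [GrpObj B]
    [Smooth G.hom] [QuasiCompact G.hom] [LocallyOfFiniteType Q.hom] [QuasiCompact Q.hom]
    (ρ : G ⟶ Q) [IsMonHom ρ] [Flat ρ.left] [Surjective ρ.left]
    [Smooth (KerGrp.kerObj ρ).hom] [ConnectedSpace (KerGrp.kerObj ρ).left]
    (hc : ∀ (X : Over (Spec (CommRingCat.of k))) (x y : X ⟶ G), x ≫ ρ = 1 → x * y = y * x)
    (b : B ⟶ Q) (hb : Red.IsBorelOver k b) [GrpObj (PreimGrp.preObj ρ b)]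
    [IsMonHom (PreimGrp.preι ρ b)] [IsMonHom (PreimGrp.preπ ρ b)] :
    Red.IsBorelOver k (PreimGrp.preι ρ b) := by
  obtain ⟨hb1, hb2, hb3, hb4, hb5, hb6⟩ := hb
  have hbm : Mono b := Groth.Agent.Books.AlgPtsGrp.mono_of_isClosedImmersion b
  obtain ⟨_, _⟩ := KerGrp.exists_grpObj ρ
  have hcl : IsClosedImmersion (PreimGrp.preι ρ b).left :=
    inferInstanceAs (IsClosedImmersion (Limits.pullback.fst ρ.left b.left))
  have hlft : LocallyOfFiniteType (PreimGrp.preObj ρ b).hom :=
    inferInstanceAs (LocallyOfFiniteType (Limits.pullback.fst ρ.left b.left ≫ G.hom))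
  have hqc : QuasiCompact (PreimGrp.preObj ρ b).hom :=
    inferInstanceAs (QuasiCompact (Limits.pullback.fst ρ.left b.left ≫ G.hom))
  have hs : Surjective (PreimGrp.preπ ρ b).left :=
    inferInstanceAs (Surjective (Limits.pullback.snd ρ.left b.left))
  have hfl : Flat (PreimGrp.preπ ρ b).left :=
    inferInstanceAs (Flat (Limits.pullback.snd ρ.left b.left))
  have hsepQ := Groth.Agent.Books.AntiAffine.isSeparated_hom Q
  have hsepB := Groth.Agent.Books.AntiAffine.isSeparated_hom B
  -- the kernel of `P ⟶ B`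
  obtain ⟨j, hj1, hj2⟩ := PreimGrp.exists_lift (f := ρ) (v := b) (KerGrp.kerι ρ)
    (1 : KerGrp.kerObj ρ ⟶ B) (by rw [KerGrp.kerι_comp, MonObj.one_comp])
  have hker : AlgGrp.IsKernel j (PreimGrp.preπ ρ b) := by
    have hw : j ≫ PreimGrp.preπ ρ b = toUnit _ ≫ η[B] := by
      rw [hj2, Hom.one_def]
    refine ⟨⟨hw⟩, ⟨Limits.PullbackCone.IsLimit.mk _ (fun s => ?_) (fun s => ?_) (fun s => ?_)
      (fun s m h1 h2 => ?_)⟩⟩
    · exact (KerGrp.isPullback_ker ρ).lift (s.fst ≫ PreimGrp.preι ρ b) (toUnit _) (by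
        rw [Category.assoc, PreimGrp.condition, ← Category.assoc, s.condition,
          toUnit_unique s.snd (toUnit _), Category.assoc, IsMonHom.one_hom])
    · rw [← cancel_mono (PreimGrp.preι ρ b), Category.assoc, hj1]
      exact (KerGrp.isPullback_ker ρ).lift_fst _ _ _
    · exact toUnit_unique _ _
    · rw [← cancel_mono (KerGrp.kerι ρ)]
      refine Eq.trans ?_ ((KerGrp.isPullback_ker ρ).lift_fst _ _ _).symm
      rw [← h1, Category.assoc, hj1]
  obtain ⟨-, -, hPs, hPc⟩ := Groth.Agent.Sga3.H821.ExtConn.smooth_connected j (PreimGrp.preπ ρ b) hker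
  have hsolv : Red.IsSolvableGrp (PreimGrp.preObj ρ b) := by
    refine isSolvableGrp_of_central (PreimGrp.preπ ρ b) hb5 fun X x y hx => ?_
    rw [← cancel_mono (PreimGrp.preι ρ b), MonObj.mul_comp, MonObj.mul_comp]
    apply hc
    rw [Category.assoc, PreimGrp.condition, ← Category.assoc, hx, MonObj.one_comp]
  refine ⟨inferInstance, hcl, hPs, hPc, hsolv, ?_⟩
  intro B' _ i' _ f hi'c hi's hi'con hi'sol hfi
  have hqc' : QuasiCompact (i' ≫ ρ).left := by
    have h0 : QuasiCompact B'.hom := by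
      rw [← Over.w i']; infer_instance
    have h1 : QuasiCompact ((i' ≫ ρ).left ≫ Q.hom) := by rw [Over.w]; infer_instance
    exact QuasiCompact.of_comp _ Q.hom
  obtain ⟨C, _, p, c, hp, hcm, hpc, hpf, hps, -, hcc, hCs, hCc, -⟩ := HomKit.exists_image (i' ≫ ρ)
  have hCconn : ConnectedSpace C.left := hCc hi'con
  have hCsol : Red.IsSolvableGrp C := IsogWord.isSolvableGrp_of_surjective p hi'sol
  have hBred : IsReduced B.left := Groth.Agent.Books.AlgPtsSmooth.isReduced_of_smooth B
  obtain ⟨g, hg⟩ := exists_factor (PreimGrp.preπ ρ b) b c (f ≫ p) (by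
    rw [Category.assoc, hpc, ← Category.assoc, hfi, PreimGrp.condition])
  have hgi : IsIso g := hb6 C c g hcc hCs hCconn hCsol hg
  obtain ⟨s, hs1, hs2⟩ := PreimGrp.exists_lift (f := ρ) (v := b) i' (p ≫ inv g) (by
    rw [← hpc, Category.assoc, ← hg, IsIso.inv_hom_id_assoc])
  have hi'm : Mono i' := Groth.Agent.Books.AlgPtsGrp.mono_of_isClosedImmersion i'
  refine ⟨s, ?_, ?_⟩
  · rw [← cancel_mono (PreimGrp.preι ρ b), Category.assoc, hs1, hfi, Category.id_comp]
  · rw [← cancel_mono i', Category.assoc, hfi, hs1, Category.id_comp]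

variable (k) in
/-- Smooth connected groups. -/
theorem conn (G : Over (Spec (CommRingCat.of k))) [GrpObj G] [Smooth G.hom] [QuasiCompact G.hom]
    [ConnectedSpace G.left] (v : ↥(LieS.LieR G k)) :
    ∃ (B : Over (Spec (CommRingCat.of k))) (_ : GrpObj B) (i : B ⟶ G) (_ : IsMonHom i),
      Red.IsBorelOver k i ∧ ∃ w : ↥(LieS.LieR B k),
        LieS.map k (Spec.map (CommRingCat.ofHom (algebraMap k k))) i w = v := by
  obtain ⟨Q, _, ρ, hρ, hQa, hQf, hρf, hρs, haff⟩ := K399.Hull.exists_affinization G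
  have hQqc : QuasiCompact Q.hom := inferInstance
  have hQs : Smooth Q.hom := HomKit.smooth_of_flat_surjective ρ
  have hQc : ConnectedSpace Q.left := hρs.surj.connectedSpace ρ.left.continuous
  obtain ⟨hN1, hN2, hN3⟩ := Groth.Agent.S4107.main ρ haff
  obtain ⟨_, _⟩ := KerGrp.exists_grpObj ρ
  have h9 : LocallyOfFiniteType (ρ.left ≫ Q.hom) := by rw [Over.w]; infer_instance
  have h8 : QuasiCompact (ρ.left ≫ Q.hom) := by rw [Over.w]; infer_instance
  have h10 : QuasiCompact ρ.left := QuasiCompact.of_comp ρ.left Q.hom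
  have h12 : QuasiCompact (KerGrp.kerObj ρ).hom :=
    inferInstanceAs (QuasiCompact (Limits.pullback.snd ρ.left (η[Q] : 𝟙_ _ ⟶ Q).left))
  have hO : Function.Bijective
      ((Scheme.ΓSpecIso (CommRingCat.of k)).inv ≫ (KerGrp.kerObj ρ).hom.appTop).hom :=
    ConcreteCategory.bijective_of_isIso _
  have hcen : ∀ (X : Over (Spec (CommRingCat.of k))) (x y : X ⟶ G), x ≫ ρ = 1 → x * y = y * x := by
    intro X x y hx
    obtain ⟨n, rfl⟩ := KerGrp.exists_lift ρ x hx
    have := Groth.Agent.S7996.result k (KerGrp.kerObj ρ) G hO (KerGrp.kerι ρ) X n X (𝟙 X) y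
    rwa [Category.id_comp] at this
  obtain ⟨B, _, b, hbm, hb, w, hw⟩ := AffCase.main k Q
    (LieS.map k (Spec.map (CommRingCat.ofHom (algebraMap k k))) ρ v)
  have hbcl : IsClosedImmersion b.left := hb.2.1
  have hbmono : Mono b := Groth.Agent.Books.AlgPtsGrp.mono_of_isClosedImmersion b
  obtain ⟨_, _, _⟩ := PreimGrp.exists_grpObj ρ b
  have hP := isBorelOver_pre ρ hcen b hb
  have hw' : w.1 ≫ b = v.1 ≫ ρ := congrArg Subtype.val hw
  obtain ⟨t, ht1, ht2⟩ := PreimGrp.exists_lift (f := ρ) (v := b) v.1 w.1 hw'.symm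
  refine ⟨PreimGrp.preObj ρ b, inferInstance, PreimGrp.preι ρ b, inferInstance, hP, ⟨t, ?_⟩, ?_⟩
  · rw [LieS.mem_Lie_iff, ← cancel_mono (PreimGrp.preι ρ b), Category.assoc, ht1, MonObj.one_comp]
    exact v.2
  · exact Subtype.ext ht1

end K796.ConnCase
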