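import Mathlib.RingTheory.PowerSeries.Inverse
import Mathlib.RingTheory.Valuation.LocalSubring
import Mathlib.RingTheory.Polynomial.Content
import Mathlib.FieldTheory.IsAlgClosed.AlgebraicClosure
import Mathlib.RingTheory.Localization.FractionRing

/-!
# A valuation ring with algebraically closed fraction field dominating `k⟦X⟧`, residue field `k`
-/

set_option autoImplicit false

universe u v

namespace K796.Val

open PowerSeries Polynomial

section Alg

variable {k : Type u} [Field k] [IsAlgClosed k]

/-- If `A` is local with a local homomorphism `j : k⟦X⟧ → A` with `j X` a nonzerodivisor and every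
element of `A` algebraic over `k⟦X⟧`, then every element of `A` is congruent to a constant. -/
theorem exists_const {A : Type u} [CommRing A] [IsDomain A] [IsLocalRing A] (j : k⟦X⟧ →+* A) [IsLocalHom j]
    (hj : Function.Injective j) (a : A)
    (ha : ∃ p : k⟦X⟧[X], p ≠ 0 ∧ p.eval₂ j a = 0) :
    ∃ c : k, a - j (PowerSeries.C c) ∈ IsLocalRing.maximalIdeal A := by
  classical
  obtain ⟨p, hp, hpa⟩ := ha
  let _ : NormalizedGCDMonoid k⟦X⟧ := Nonempty.some inferInstance
  -- the primitive part
  have hq : p.primPart.eval₂ j a = 0 := by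
    have h1 : p = Polynomial.C p.content * p.primPart := p.eq_C_content_mul_primPart
    rw [h1, Polynomial.eval₂_mul, Polynomial.eval₂_C, mul_eq_zero] at hpa
    refine hpa.resolve_left fun h => ?_
    rw [← map_zero j] at h
    exact hp (Polynomial.content_eq_zero_iff.1 (hj h))
  set q := p.primPart with hqdef
  have hqm : q.map (PowerSeries.constantCoeff (R := k)) ≠ 0 := by
    intro h
    have hX : Polynomial.C (PowerSeries.X : k⟦X⟧) ∣ q := by
      rw [Polynomial.C_dvd_iff_dvd_coeff]
      intro n
      rw [PowerSeries.X_dvd_iff]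
      have := congrArg (fun r => Polynomial.coeff r n) h
      simpa using this
    have hu := p.isPrimitive_primPart _ hX
    exact PowerSeries.X_prime.not_isUnit hu
  -- reduce
  let κ := IsLocalRing.ResidueField A
  let r : A →+* κ := IsLocalRing.residue A
  let i : k →+* κ := r.comp (j.comp (PowerSeries.C (R := k)))
  have hri : r.comp j = i.comp (PowerSeries.constantCoeff (R := k)) := by
    ext f
    have h1 : f = PowerSeries.X * (PowerSeries.mk fun p => PowerSeries.coeff (p + 1) f) +
        PowerSeries.C (PowerSeries.constantCoeff f) := PowerSeries.eq_X_mul_shift_add_const f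
    have hX : r (j PowerSeries.X) = 0 := by
      rw [IsLocalRing.residue_eq_zero_iff, IsLocalRing.mem_maximalIdeal, mem_nonunits_iff]
      intro hu
      exact PowerSeries.X_prime.not_isUnit (isUnit_of_map_unit j _ hu)
    change r (j f) = r (j (PowerSeries.C (PowerSeries.constantCoeff f)))
    conv_lhs => rw [h1]
    rw [map_add, map_add, map_mul, map_mul, hX, zero_mul, zero_add]
  have h2 : (q.map (PowerSeries.constantCoeff (R := k))).eval₂ i (r a) = 0 := by
    rw [Polynomial.eval₂_map, ← hri, ← Polynomial.hom_eval₂, hq, map_zero]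
  have hs := (IsAlgClosed.splits (q.map (PowerSeries.constantCoeff (R := k))))
  obtain ⟨c, hc⟩ : ∃ c : k, r a = i c := by
    rw [← Polynomial.eval_map] at h2
    have hs' := hs.eq_prod_roots
    rw [hs', Polynomial.map_mul, Polynomial.eval_mul, Polynomial.map_C, Polynomial.eval_C,
      mul_eq_zero] at h2
    rcases h2 with h2 | h2
    · exfalso
      rw [_root_.map_eq_zero, Polynomial.leadingCoeff_eq_zero] at h2
      exact hqm h2
    · rw [Polynomial.map_multiset_prod, Polynomial.eval_multiset_prod, Multiset.prod_eq_zero_iff] at h2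
      simp only [Multiset.mem_map, exists_exists_and_eq_and, Polynomial.map_sub, Polynomial.map_X, Polynomial.map_C,
        Polynomial.eval_sub, Polynomial.eval_X, Polynomial.eval_C] at h2
      obtain ⟨c, -, hc⟩ := h2
      exact ⟨c, sub_eq_zero.1 hc⟩
  refine ⟨c, ?_⟩
  rw [← IsLocalRing.residue_eq_zero_iff, map_sub, sub_eq_zero]
  exact hc

end Alg

variable (k : Type u) [Field k] [IsAlgClosed k]

/-- A valuation ring `V` with algebraically closed fraction field `F`, dominating `k⟦X⟧`, with
residue field `k`. -/
theorem exists_val : ∃ (F : Type u) (_ : Field F) (_ : IsAlgClosed F) (V : Type u) (_ : CommRing V)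
    (_ : IsDomain V) (_ : ValuationRing V) (_ : Algebra V F) (_ : IsFractionRing V F)
    (j : k⟦X⟧ →+* V) (r : V →+* k), Function.Injective j ∧
      r.comp j = PowerSeries.constantCoeff := by
  classical
  let K := FractionRing k⟦X⟧
  let F := AlgebraicClosure K
  let f : k⟦X⟧ →+* F := (algebraMap K F).comp (algebraMap k⟦X⟧ K)
  have hf : Function.Injective f :=
    (algebraMap K F).injective.comp (IsFractionRing.injective k⟦X⟧ K)
  obtain ⟨V, hV, hloc⟩ := IsLocalRing.exists_factor_valuationRing f
  let j : k⟦X⟧ →+* V := f.codRestrict V.toSubring hV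
  have hj : Function.Injective j := by
    intro x y h
    exact hf (congrArg Subtype.val h)
  have hlj : IsLocalHom j := hloc
  have halg : ∀ a : V, ∃ p : k⟦X⟧[X], p ≠ 0 ∧ p.eval₂ j a = 0 := by
    intro a
    have h1 : IsAlgebraic K (a : F) := Algebra.IsAlgebraic.isAlgebraic (a : F)
    have h2 : IsAlgebraic k⟦X⟧ (a : F) := by
      exact (IsFractionRing.isAlgebraic_iff k⟦X⟧ K F).2 h1
    obtain ⟨p, hp, hpa⟩ := h2
    refine ⟨p, hp, ?_⟩
    apply Subtype.val_injective
    have h3 : (V.subtype) (p.eval₂ j a) = p.eval₂ (V.subtype.comp j) (a : F) :=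
      Polynomial.hom_eval₂ _ _ _ _
    change V.subtype _ = V.subtype 0
    rw [h3, map_zero]
    exact hpa
  have hc := fun a : V => exists_const j hj a (halg a)
  let i : k →+* IsLocalRing.ResidueField V :=
    (IsLocalRing.residue V).comp (j.comp (PowerSeries.C (R := k)))
  have hi : Function.Bijective i := by
    refine ⟨i.injective, fun y => ?_⟩
    obtain ⟨a, rfl⟩ := IsLocalRing.residue_surjective y
    obtain ⟨c, hc⟩ := hc a
    refine ⟨c, ?_⟩
    rw [← IsLocalRing.residue_eq_zero_iff, map_sub, sub_eq_zero] at hc
    exact hc.symm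
  let e : k ≃+* IsLocalRing.ResidueField V := RingEquiv.ofBijective i hi
  refine ⟨F, inferInstance, inferInstance, V, inferInstance, inferInstance, inferInstance,
    inferInstance, inferInstance, j, e.symm.toRingHom.comp (IsLocalRing.residue V), hj, ?_⟩
  ext f
  apply e.injective
  have h1 : e (e.symm (IsLocalRing.residue V (j f))) = IsLocalRing.residue V (j f) :=
    e.apply_symm_apply _
  change e (e.symm (IsLocalRing.residue V (j f))) =
    IsLocalRing.residue V (j (PowerSeries.C (PowerSeries.constantCoeff f)))
  rw [h1]
  have h2 : f = PowerSeries.X * (PowerSeries.mk fun p => PowerSeries.coeff (p + 1) f) +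
      PowerSeries.C (PowerSeries.constantCoeff f) := PowerSeries.eq_X_mul_shift_add_const f
  have hX : IsLocalRing.residue V (j PowerSeries.X) = 0 := by
    rw [IsLocalRing.residue_eq_zero_iff, IsLocalRing.mem_maximalIdeal, mem_nonunits_iff]
    intro hu
    exact PowerSeries.X_prime.not_isUnit (isUnit_of_map_unit j _ hu)
  conv_lhs => rw [h2]
  rw [map_add, map_add, map_mul, map_mul, hX, zero_mul, zero_add]

end K796.Val
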