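import Groth.Agent.SGA3t2b.K796.PSLift
import Groth.Agent.SGA3t2b.K796.Val
import Groth.Agent.SGA3t2b.K796.Agree
import Groth.Agent.Sga3B.AffHopf
import Groth.Agent.Sga3C.Transl
import Mathlib.AlgebraicGeometry.ValuativeCriterion

/-!
# Fixed points of tangent vectors on proper schemes

Let `G` be an affine smooth group over an algebraically closed field `k` acting on a proper `X`,
such that every point of `G` with values in an algebraically closed extension `F` of `k` fixes an
`F`-point of `X`. Then every `v ∈ G(k[ε])` reducing to the unit fixes (over `k[ε]`) a constant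
point `y₀ ∈ X(k)`.
-/

set_option autoImplicit false

universe u

open CategoryTheory MonoidalCategory CartesianMonoidalCategory MonObj GrpObj AlgebraicGeometry
open K796.Agree Groth.Agent.Sga3C.Transl

namespace K796.FixPt

section lift

variable {k : Type u} [Field k]

/-- lifting a point of a smooth affine scheme along `k⟦X⟧ → k[ε]` -/
theorem exists_lift (G : Over (Spec (CommRingCat.of k))) [GrpObj G] [IsAffine G.left]
    [Smooth G.hom] (v : tp (algebraMap k (DualNumber k)) ⟶ G) :
    ∃ g : tp (PowerSeries.C (R := k)) ⟶ G,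
      tm (PSLift.tr k) (RingHom.ext fun a => PSLift.tr_C k a) ≫ g = v := by
  obtain ⟨A, _, _, i₀, -⟩ := Groth.Agent.Sga3B.AffHopf.exists_hopf G
  have hsm := Groth.Agent.Sga3B.AffHopf.smooth_of_iso i₀
  let i : tp (algebraMap k A) ≅ G := i₀
  obtain ⟨f, hf⟩ := Spec.map_surjective (v ≫ i.inv).left
  have hfa : f.hom.comp (algebraMap k A) = algebraMap k (DualNumber k) := by
    have h1 := Over.w (v ≫ i.inv)
    rw [← hf] at h1
    change Spec.map f ≫ Spec.map (CommRingCat.ofHom (algebraMap k A)) =
      Spec.map (CommRingCat.ofHom (algebraMap k (DualNumber k))) at h1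
    rw [← Spec.map_comp] at h1
    exact congrArg CommRingCat.Hom.hom (Spec.map_injective h1)
  obtain ⟨ψ, h1, h2⟩ := PSLift.exists_lift k A f.hom hfa
  let g' : tp (PowerSeries.C (R := k)) ⟶ tp (algebraMap k A) := tm ψ h2
  refine ⟨g' ≫ i.hom, ?_⟩
  have h3 : tm (PSLift.tr k) (RingHom.ext fun a => PSLift.tr_C k a) ≫ g' = v ≫ i.inv := by
    ext1
    rw [← hf]
    change Spec.map _ ≫ Spec.map _ = _
    rw [LieS.specMap_comp, h1]
    rfl
  change tm (PSLift.tr k) (RingHom.ext fun a => PSLift.tr_C k a) ≫ g' ≫ i.hom = v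
  rw [← Category.assoc, h3, Category.assoc, i.inv_hom_id, Category.comp_id]

end lift

section main

variable {k : Type u} [Field k] [IsAlgClosed k]

theorem exists_fixed (G X : Over (Spec (CommRingCat.of k))) [GrpObj G] [IsAffine G.left]
    [Smooth G.hom] [IsProper X.hom] (a : AlgGrp.Action G X)
    (hF : ∀ (F : Type u) [Field F] [IsAlgClosed F] (s : k →+* F) (g : tp s ⟶ G),
      ∃ y : tp s ⟶ X, lift g y ≫ a.act = y)
    (v : tp (algebraMap k (DualNumber k)) ⟶ G)
    (hv : tm (s' := RingHom.id k) (TrivSqZeroExt.fstHom k k k).toRingHom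
      (LieS.fstHom_comp_algebraMap k) ≫ v = 1) :
    ∃ y₀ : tp (RingHom.id k) ⟶ X,
      lift v (tm (s := RingHom.id k) (algebraMap k (DualNumber k)) (RingHom.comp_id _) ≫ y₀) ≫ a.act =
        tm (s := RingHom.id k) (algebraMap k (DualNumber k)) (RingHom.comp_id _) ≫ y₀ := by
  obtain ⟨g, hg⟩ := exists_lift G v
  obtain ⟨F, _, _, V, _, _, _, _, _, j, r, hj, hrj⟩ := Val.exists_val k
  let sV : k →+* V := j.comp PowerSeries.C
  let sF : k →+* F := (algebraMap V F).comp sV
  have hrs : r.comp sV = RingHom.id k := by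
    rw [← RingHom.comp_assoc, hrj]
    ext a
    simp
  let gV : tp sV ⟶ G := tm j rfl ≫ g
  obtain ⟨yF, hyF⟩ := hF F sF (tm (s := sV) (algebraMap V F) rfl ≫ gV)
  -- extend to `V`
  have hex : ∃ y : tp sV ⟶ X, tm (s := sV) (s' := sF) (algebraMap V F) rfl ≫ y = yF := by
    have hp : ValuativeCriterion.Existence X.hom := by
      have h : IsProper X.hom := inferInstance
      rw [IsProper.eq_valuativeCriterion] at h
      exact h.1.1.1.existence
    have hsq : CommSq yF.left (Spec.map (CommRingCat.ofHom (algebraMap V F))) X.hom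
        (Spec.map (CommRingCat.ofHom sV)) := ⟨by
      rw [Over.w yF]
      exact (LieS.specMap_comp _ _).symm⟩
    obtain ⟨⟨l⟩⟩ := hp ⟨V, F, yF.left, Spec.map (CommRingCat.ofHom sV), hsq⟩
    refine ⟨Over.homMk l.l l.fac_right, ?_⟩
    ext1
    exact l.fac_left
  obtain ⟨y, hy⟩ := hex
  have hsep : IsSeparated X.hom := inferInstance
  have hVF : Function.Injective (algebraMap V F) := IsFractionRing.injective V F
  have hfix : lift gV y ≫ a.act = y := by
    have h0 : tm (s := sV) (s' := sF) (algebraMap V F) rfl ≫ lift gV y ≫ a.act =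
        tm (s := sV) (s' := sF) (algebraMap V F) rfl ≫ y := by
      rw [comp_lift_act, hy]
      exact hyF
    have h1 := agree_tm (X := X) (lift gV y ≫ a.act) y (s₁ := sF) (s₂ := sF) (s' := sV)
      (algebraMap V F) rfl (algebraMap V F) rfl
      (RingHom.id V) (RingHom.id_comp _) h0 h0 (by
        rw [(RingHom.injective_iff_ker_eq_bot _).1 hVF]
        exact inf_le_left.trans bot_le)
    rw [tm_id] at h1
    rwa [Category.id_comp, Category.id_comp] at h1
  -- infinitesimal computation
  let t : V := j PowerSeries.X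
  have ht0 : t ≠ 0 := by
    intro h
    rw [← map_zero j] at h
    exact PowerSeries.X_ne_zero (hj h)
  have hrt : r t = 0 := by
    have := congrArg (fun q => q (PowerSeries.X : PowerSeries k)) hrj
    simpa [t] using this
  let I : Ideal V := Ideal.span {t ^ 2}
  let mk : V →+* V ⧸ I := Ideal.Quotient.mk I
  have hmt : mk t * mk t = 0 := by
    rw [← map_mul, ← pow_two]
    exact Ideal.Quotient.eq_zero_iff_mem.2 (Ideal.mem_span_singleton_self _)
  let sE : k →+* DualNumber k := algebraMap k (DualNumber k)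
  let sVE : k →+* DualNumber V := (algebraMap V (DualNumber V)).comp sV
  let bc : DualNumber k →+* DualNumber V := LieS.bcHom sV
  have hbc : bc.comp sE = sVE := LieS.bcHom_comp_algebraMap sV
  let ev : DualNumber V →+* V ⧸ I := LieS.dualHom mk (mk t) hmt
  have hev : ev.comp (algebraMap V (DualNumber V)) = mk := LieS.dualHom_comp_algebraMap _ _ _
  let fs : DualNumber V →+* V := (TrivSqZeroExt.fstHom V V V).toRingHom
  have hfs : fs.comp (algebraMap V (DualNumber V)) = RingHom.id V := LieS.fstHom_comp_algebraMap V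
  let rE : DualNumber V →+* DualNumber k := LieS.bcHom r
  have hrE : rE.comp (algebraMap V (DualNumber V)) = sE.comp r := LieS.bcHom_comp_algebraMap r
  have hrs' : ∀ x, r (sV x) = x := fun x => congrArg (fun q => q x) hrs
  have hrbc : rE.comp bc = RingHom.id _ := by
    refine RingHom.ext fun x => TrivSqZeroExt.ext ?_ ?_
    · simp [rE, bc, LieS.bcHom, TrivSqZeroExt.algebraMap_eq_inl', hrs']
    · simp [rE, bc, LieS.bcHom, TrivSqZeroExt.algebraMap_eq_inl', hrs']
  have hker : RingHom.ker fs ⊓ RingHom.ker ev ≤ RingHom.ker rE := by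
    rintro x ⟨h1, h2⟩
    have h1' : x.fst = 0 := h1
    have h2' : mk x.fst + mk x.snd * mk t = 0 := h2
    rw [h1', map_zero, zero_add, ← map_mul] at h2'
    have h3 := Ideal.Quotient.eq_zero_iff_mem.1 h2'
    rw [Ideal.mem_span_singleton] at h3
    obtain ⟨c, hc⟩ := h3
    have h4 : x.snd = t * c := by
      apply mul_right_cancel₀ ht0
      rw [hc]; ring
    have h5 : r x.snd = 0 := by rw [h4, map_mul, hrt, zero_mul]
    rw [RingHom.mem_ker]
    ext
    · simp [rE, LieS.bcHom, TrivSqZeroExt.algebraMap_eq_inl', h1']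
    · simp [rE, LieS.bcHom, TrivSqZeroExt.algebraMap_eq_inl', h5]
  have hevbc : (ev.comp bc).comp (PSLift.tr k) = mk.comp j := by
    refine RingHom.ext fun f => ?_
    have hf : PowerSeries.X ^ 2 ∣ f - (PowerSeries.C (PowerSeries.coeff 0 f) +
        PowerSeries.C (PowerSeries.coeff 1 f) * PowerSeries.X) := by
      rw [PowerSeries.X_pow_dvd_iff]
      intro m hm
      interval_cases m
      · simp
      · simp [PowerSeries.coeff_C]
    obtain ⟨c, hc⟩ := hf
    have h1 : f = PowerSeries.C (PowerSeries.coeff 0 f) +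
        PowerSeries.C (PowerSeries.coeff 1 f) * PowerSeries.X + PowerSeries.X ^ 2 * c := by
      rw [← hc]; ring
    have h2 : mk (j (PowerSeries.X ^ 2 * c)) = 0 := by
      rw [Ideal.Quotient.eq_zero_iff_mem, Ideal.mem_span_singleton, map_mul, map_pow]
      exact dvd_mul_right _ _
    have h3 : mk (j f) = mk (sV (PowerSeries.coeff 0 f)) + mk (sV (PowerSeries.coeff 1 f)) * mk t := by
      conv_lhs => rw [h1]
      rw [map_add, map_add, h2, add_zero, map_add, map_add, map_mul, map_mul]
      rfl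
    change ev (bc (PSLift.tr k f)) = mk (j f)
    rw [h3]
    simp [ev, bc, LieS.bcHom, TrivSqZeroExt.algebraMap_eq_inl']
  -- the two points over `V[ε]`
  let z' : tp sVE ⟶ X := lift (tm (s := sE) bc hbc ≫ v)
    (tm (s := sV) (algebraMap V (DualNumber V)) rfl ≫ y) ≫ a.act
  let z'' : tp sVE ⟶ X := tm (s := sV) (algebraMap V (DualNumber V)) rfl ≫ y
  have hfsVE : fs.comp sVE = sV := by
    change fs.comp ((algebraMap V (DualNumber V)).comp sV) = sV
    rw [← RingHom.comp_assoc, hfs, RingHom.id_comp]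
  have hevVE : ev.comp sVE = mk.comp sV := by
    change ev.comp ((algebraMap V (DualNumber V)).comp sV) = _
    rw [← RingHom.comp_assoc, hev]
  have hrEVE : rE.comp sVE = sE := by
    change rE.comp ((algebraMap V (DualNumber V)).comp sV) = sE
    rw [← RingHom.comp_assoc, hrE, RingHom.comp_assoc, hrs, RingHom.comp_id]
  have e1 : tm (s' := sV) fs hfsVE ≫ z' = tm (s' := sV) fs hfsVE ≫ z'' := by
    change tm (s' := sV) fs hfsVE ≫ lift (tm (s := sE) bc hbc ≫ v)
      (tm (s := sV) (algebraMap V (DualNumber V)) rfl ≫ y) ≫ a.act =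
      tm (s' := sV) fs hfsVE ≫ tm (s := sV) (algebraMap V (DualNumber V)) rfl ≫ y
    rw [comp_lift_act, tm_comp_assoc, tm_comp_assoc]
    have h1 : tm (s := sE) (s' := sV) (fs.comp bc) (by rw [RingHom.comp_assoc, hbc, hfsVE]) ≫ v = 1 := by
      have h2 : fs.comp bc = sV.comp (TrivSqZeroExt.fstHom k k k).toRingHom :=
        LieS.fstHom_comp_bcHom sV
      rw [tm_congr h2]
      rw [← tm_comp_assoc (s := sE) (s' := RingHom.id k) (s'' := sV)
        (TrivSqZeroExt.fstHom k k k).toRingHom (LieS.fstHom_comp_algebraMap k) sV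
        (RingHom.comp_id _) v, hv, MonObj.comp_one]
    rw [h1, lift_one_act]
  have e2 : tm (s' := mk.comp sV) ev hevVE ≫ z' = tm (s' := mk.comp sV) ev hevVE ≫ z'' := by
    change tm (s' := mk.comp sV) ev hevVE ≫ lift (tm (s := sE) bc hbc ≫ v)
      (tm (s := sV) (algebraMap V (DualNumber V)) rfl ≫ y) ≫ a.act =
      tm (s' := mk.comp sV) ev hevVE ≫ tm (s := sV) (algebraMap V (DualNumber V)) rfl ≫ y
    rw [comp_lift_act, tm_comp_assoc, tm_comp_assoc, ← hg, tm_comp_assoc, tm_congr hevbc,
      tm_congr hev]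
    rw [← tm_comp_assoc (s := PowerSeries.C) (s' := sV) j rfl mk rfl g, ← comp_lift_act]
    change _ ≫ lift gV y ≫ a.act = _
    rw [hfix]
  have e3 := agree_tm (X := X) z' z'' fs hfsVE ev hevVE rE hrEVE e1 e2 hker
  refine ⟨tm r hrs ≫ y, ?_⟩
  change tm rE hrEVE ≫ lift (tm (s := sE) bc hbc ≫ v)
      (tm (s := sV) (algebraMap V (DualNumber V)) rfl ≫ y) ≫ a.act =
    tm rE hrEVE ≫ tm (s := sV) (algebraMap V (DualNumber V)) rfl ≫ y at e3
  rw [comp_lift_act, tm_comp_assoc, tm_comp_assoc, tm_congr hrbc, tm_id, Category.id_comp,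
    tm_congr hrE] at e3
  rw [tm_comp_assoc]
  exact e3

end main

end K796.FixPt
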