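import Mathlib.Algebra.Lie.CartanSubalgebra
import Mathlib.Algebra.Lie.Rank
import Mathlib.LinearAlgebra.Charpoly.ToMatrix
import Mathlib.LinearAlgebra.FiniteDimensional.Lemmas

/-!
# Lie algebras with a root decomposition with respect to a commutative subspace
-/

set_option autoImplicit false

universe u v

open Polynomial Module

namespace K796.LieDec

variable (k : Type u) [Field k] (L : Type v) [LieRing L] [LieAlgebra k L]

/-- A decomposition of `L` as the sum of a commutative subspace `V` and of lines on which `V` acts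
through linear forms `δ a`. -/
structure Dec (ι : Type) (V : Type*) [Fintype ι] [DecidableEq ι] [AddCommGroup V] [Module k V] where
  /-- the decomposition -/
  Φ : ((ι → k) × V) ≃ₗ[k] L
  /-- the linear forms -/
  δ : ι → (V →ₗ[k] k)
  comm : ∀ f f', ⁅Φ (0, f), Φ (0, f')⁆ = 0
  root : ∀ f a, ⁅Φ (0, f), Φ (Pi.single a 1, 0)⁆ = δ a f • Φ (Pi.single a 1, 0)

variable {k L} {ι : Type} {V : Type*} [Fintype ι] [DecidableEq ι] [AddCommGroup V] [Module k V]

namespace Dec

variable (D : Dec k L ι V)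

theorem Φ_eq (ξ : ι → k) (f : V) :
    D.Φ (ξ, f) = (∑ a, ξ a • D.Φ (Pi.single a 1, 0)) + D.Φ (0, f) := by
  have h : ((ξ, f) : (ι → k) × V) = (∑ a, ξ a • ((Pi.single a 1, 0) : (ι → k) × V)) + (0, f) := by
    ext b
    · simp [Prod.fst_sum, Finset.sum_apply, Pi.single_apply]
    · simp [Prod.snd_sum]
  conv_lhs => rw [h]
  rw [map_add, map_sum]
  simp_rw [map_smul]

theorem lie_apply (f : V) (ξ : ι → k) (f' : V) :
    ⁅D.Φ (0, f), D.Φ (ξ, f')⁆ = D.Φ (fun a => D.δ a f * ξ a, 0) := by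
  rw [D.Φ_eq ξ f', lie_add, D.comm, add_zero, lie_sum, D.Φ_eq (fun a => D.δ a f * ξ a) 0]
  have h0 : D.Φ ((0 : ι → k), (0 : V)) = 0 := D.Φ.map_zero
  rw [h0, add_zero]
  refine Finset.sum_congr rfl fun a _ => ?_
  rw [lie_smul, D.root, smul_smul, mul_comm]

/-- the subalgebra `V` -/
def H : LieSubalgebra k L where
  carrier := Set.range fun f : V => D.Φ (0, f)
  add_mem' := by
    rintro _ _ ⟨f, rfl⟩ ⟨f', rfl⟩
    refine ⟨f + f', ?_⟩
    change D.Φ (0, f + f') = D.Φ (0, f) + D.Φ (0, f')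
    rw [← map_add, Prod.mk_add_mk, add_zero]
  zero_mem' := ⟨0, D.Φ.map_zero⟩
  smul_mem' := by
    rintro c _ ⟨f, rfl⟩
    refine ⟨c • f, ?_⟩
    change D.Φ (0, c • f) = c • D.Φ (0, f)
    rw [← map_smul, Prod.smul_mk, smul_zero]
  lie_mem' := by
    rintro _ _ ⟨f, rfl⟩ ⟨f', rfl⟩
    refine ⟨0, ?_⟩
    change D.Φ (0, 0) = ⁅D.Φ (0, f), D.Φ (0, f')⁆
    rw [D.comm]
    exact D.Φ.map_zero

theorem mem_H {x : L} : x ∈ D.H ↔ ∃ f, D.Φ (0, f) = x := Iff.rfl

theorem coe_H : (D.H : Set L) = Set.range fun f : V => D.Φ (0, f) := rfl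

/-- `V` is a Cartan subalgebra as soon as some element of `V` is regular. -/
theorem isCartanSubalgebra (f₀ : V) (h₀ : ∀ a, D.δ a f₀ ≠ 0) : D.H.IsCartanSubalgebra where
  nilpotent := by
    have : IsLieAbelian D.H := ⟨by
      rintro ⟨_, f, rfl⟩ ⟨_, f', rfl⟩
      apply Subtype.ext
      exact D.comm f f'⟩
    infer_instance
  self_normalizing := by
    refine le_antisymm (fun x hx => ?_) (LieSubalgebra.le_normalizer _)
    rw [LieSubalgebra.mem_normalizer_iff'] at hx
    obtain ⟨⟨ξ, f⟩, rfl⟩ := D.Φ.surjective x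
    obtain ⟨f', hf'⟩ := hx (D.Φ (0, f₀)) ⟨f₀, rfl⟩
    have h1 : D.Φ (0, f') = D.Φ (fun a => D.δ a f₀ * ξ a, 0) := by
      rw [← D.lie_apply f₀ ξ f]
      exact hf'
    have h2 := congrArg Prod.fst (D.Φ.injective h1)
    have h3 : ξ = 0 := by
      funext a
      have h4 := congrFun h2 a
      simp only [Pi.zero_apply] at h4
      exact (mul_eq_zero.1 h4.symm).resolve_left (h₀ a)
    rw [h3]
    exact ⟨f, rfl⟩

/-- `V` is isomorphic to the subalgebra -/
noncomputable def equivH : V ≃ₗ[k] D.H :=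
  LinearEquiv.ofBijective
    ({ toFun := fun f => ⟨D.Φ (0, f), f, rfl⟩
       map_add' := fun f f' => Subtype.ext (by
         change D.Φ (0, f + f') = D.Φ (0, f) + D.Φ (0, f')
         rw [← map_add, Prod.mk_add_mk, add_zero])
       map_smul' := fun c f => Subtype.ext (by
         change D.Φ (0, c • f) = c • D.Φ (0, f)
         rw [← map_smul, Prod.smul_mk, smul_zero]) } : V →ₗ[k] D.H)
    ⟨fun f f' h => congrArg Prod.snd (D.Φ.injective (congrArg Subtype.val h)), by
      rintro ⟨_, f, rfl⟩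
      exact ⟨f, rfl⟩⟩

theorem finrank_H : finrank k D.H = finrank k V := (D.equivH.finrank_eq).symm

variable [Module.Finite k V]

instance finite_of_dec : Module.Finite k ((ι → k) × V) := inferInstance

theorem charpoly_ad [Module.Finite k L] [Module.Free k L] (f : V) :
    (LieAlgebra.ad k L (D.Φ (0, f))).charpoly = X ^ finrank k V * ∏ a, (X - C (D.δ a f)) := by
  let φ : Module.End k ((ι → k) × V) :=
    LinearMap.prodMap (Matrix.toLin' (Matrix.diagonal fun a => D.δ a f)) 0
  have h1 : LieAlgebra.ad k L (D.Φ (0, f)) = D.Φ.conj φ := by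
    apply LinearMap.ext
    intro x
    obtain ⟨⟨ξ, f'⟩, rfl⟩ := D.Φ.surjective x
    rw [LieAlgebra.ad_apply, D.lie_apply, LinearEquiv.conj_apply_apply, LinearEquiv.symm_apply_apply]
    congr 1
    ext a
    · simp [φ, Matrix.mulVec_diagonal]
    · simp [φ]
  rw [h1, LinearEquiv.charpoly_conj, LinearMap.charpoly_prodMap, LinearMap.charpoly_zero,
    Matrix.charpoly_toLin', Matrix.charpoly_diagonal, mul_comm]

variable [Module.Finite k L]

theorem natTrailingDegree_ad (f₀ : V) (h₀ : ∀ a, D.δ a f₀ ≠ 0) :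
    (LieAlgebra.ad k L (D.Φ (0, f₀))).charpoly.natTrailingDegree = finrank k V := by
  rw [D.charpoly_ad]
  have h1 : (∏ a, (X - C (D.δ a f₀))) ≠ 0 := Finset.prod_ne_zero_iff.2 fun a _ => X_sub_C_ne_zero _
  rw [mul_comm, Polynomial.natTrailingDegree_mul_X_pow h1, add_eq_right,
    Polynomial.natTrailingDegree_eq_zero]
  right
  rw [Polynomial.coeff_zero_eq_eval_zero, Polynomial.eval_prod]
  simp only [eval_sub, eval_X, eval_C, zero_sub]
  exact Finset.prod_ne_zero_iff.2 fun a _ => neg_ne_zero.2 (h₀ a)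

/-- degeneration to the torus part -/
theorem charpoly_limit [Infinite k] (ξ : ι → k) (f : V) (n : ι → ℕ) (hn : ∀ a, ξ a ≠ 0 → n a ≠ 0)
    (P : k[X]) (h : ∀ c : k, c ≠ 0 →
      (LieAlgebra.ad k L (D.Φ (fun a => c ^ n a * ξ a, f))).charpoly = P) :
    (LieAlgebra.ad k L (D.Φ (0, f))).charpoly = P := by
  classical
  let b := Module.Free.chooseBasis k L
  let A₀ := LinearMap.toMatrix b b (LieAlgebra.ad k L (D.Φ (0, f)))
  let A : ι → Matrix _ _ k := fun a => LinearMap.toMatrix b b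
    (LieAlgebra.ad k L (ξ a • D.Φ (Pi.single a 1, 0)))
  let M : Matrix _ _ k[X] := A₀.map C + ∑ a, (X : k[X]) ^ n a • (A a).map C
  have hM : ∀ c : k, M.map (evalRingHom c) =
      LinearMap.toMatrix b b (LieAlgebra.ad k L (D.Φ (fun a => c ^ n a * ξ a, f))) := by
    intro c
    have h1 : LieAlgebra.ad k L (D.Φ (fun a => c ^ n a * ξ a, f)) =
        LieAlgebra.ad k L (D.Φ (0, f)) +
          ∑ a, c ^ n a • LieAlgebra.ad k L (ξ a • D.Φ (Pi.single a 1, 0)) := by
      rw [D.Φ_eq, map_add (LieAlgebra.ad k L), map_sum (LieAlgebra.ad k L), add_comm]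
      congr 1
      refine Finset.sum_congr rfl fun a _ => ?_
      rw [← map_smul (LieAlgebra.ad k L), smul_smul]
    rw [h1, map_add, map_sum]
    ext i j
    simp only [M, A₀, A, Matrix.map_apply, Matrix.add_apply, Matrix.sum_apply, Matrix.smul_apply,
      eval_add, eval_finsetSum, smul_eq_mul, eval_mul, eval_pow, coe_evalRingHom, eval_X, eval_C,
      map_smul]
  have hch : ∀ c : k, M.charpoly.map (evalRingHom c) =
      (LieAlgebra.ad k L (D.Φ (fun a => c ^ n a * ξ a, f))).charpoly := by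
    intro c
    rw [← Matrix.charpoly_map, hM, LinearMap.charpoly_toMatrix]
  have hc0 : ∀ i, M.charpoly.coeff i = C (P.coeff i) := by
    intro i
    rw [← sub_eq_zero]
    refine Polynomial.eq_zero_of_infinite_isRoot _ (Set.Infinite.mono (s := {0}ᶜ) ?_ ?_)
    · intro c hc
      have h2 := congrArg (fun q => q.coeff i) ((hch c).trans (h c hc))
      simp only [Polynomial.coeff_map, coe_evalRingHom] at h2
      simp [Polynomial.IsRoot, h2]
    · exact (Set.finite_singleton (0 : k)).infinite_compl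
  have h0 : (fun a => (0 : k) ^ n a * ξ a) = 0 := by
    funext a
    by_cases ha : ξ a = 0
    · simp [ha]
    · simp [zero_pow (hn a ha)]
  rw [← h0, ← hch 0]
  ext i
  rw [Polynomial.coeff_map, hc0]
  simp

/-- The rank. -/
theorem rank_eq [Infinite k] (f₀ : V) (h₀ : ∀ a, D.δ a f₀ ≠ 0)
    (hall : ∀ x : L, X ^ finrank k V ∣ (LieAlgebra.ad k L x).charpoly) :
    LieAlgebra.rank k L = finrank k V := by
  apply le_antisymm
  · rw [← D.natTrailingDegree_ad f₀ h₀]
    exact LieAlgebra.rank_le_natTrailingDegree_charpoly_ad k _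
  · obtain ⟨x, hx⟩ := LieAlgebra.exists_isRegular k L
    rw [LieAlgebra.isRegular_iff_natTrailingDegree_charpoly_eq_rank] at hx
    rw [← hx]
    obtain ⟨q, hq⟩ := hall x
    have hq0 : q ≠ 0 := by
      rintro rfl
      rw [mul_zero] at hq
      exact (LinearMap.charpoly_monic _).ne_zero hq
    rw [hq, mul_comm, Polynomial.natTrailingDegree_mul_X_pow hq0]
    exact Nat.le_add_left _ _

end Dec

/-- Conjugate elements have the same characteristic polynomial. -/
theorem charpoly_ad_equiv [Module.Finite k L] (e : L ≃ₗ[k] L) (he : ∀ x y, e ⁅x, y⁆ = ⁅e x, e y⁆)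
    (x : L) : (LieAlgebra.ad k L (e x)).charpoly = (LieAlgebra.ad k L x).charpoly := by
  have h : LieAlgebra.ad k L (e x) = e.conj (LieAlgebra.ad k L x) := by
    apply LinearMap.ext
    intro y
    rw [LinearEquiv.conj_apply_apply, LieAlgebra.ad_apply, LieAlgebra.ad_apply, he,
      LinearEquiv.apply_symm_apply]
  rw [h, LinearEquiv.charpoly_conj]

end K796.LieDec
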