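import Groth.Agent.SGA3t2b.K796.BrkDict
import Groth.Agent.SGA3t2b.K796.LieDec
import Groth.Agent.Sga3B.CellOm

/-!
# Lie algebras as infinitesimal points of the coordinate ring; the root decomposition
-/

set_option autoImplicit false
universe u v

open CategoryTheory AlgebraicGeometry

namespace K796.LieMod

open Groth.Agent.Sga3B Cell PinMod DSPts GaPts K929.LieDict K929.LieCell K929.LieSplit
open K988.LieCalc (ev rm)
open K988.LieBrk (DD tD E1 E2 E1_sq E2_sq E12_sq cm)
open K796.BrkDict K796.LieDec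

attribute [local instance] algDD

/-- A Lie algebra which is the Lie algebra of an affine group. -/
structure LMod (k A : Type u) [Field k] [CommRing A] [Algebra k A] [PtGrp k A] (L : Type v) [LieRing L]
    [LieAlgebra k L] where
  /-- the infinitesimal point -/
  I : L → Pt k A (DualNumber k)
  I_mem : ∀ x, I x ∈ infP k A k
  I_inj : Function.Injective I
  I_surj : ∀ g ∈ infP k A k, ∃ x, I x = g
  I_add : ∀ x y, I (x + y) = I x * I y
  I_smul : ∀ (b : k) x, I (b • x) = Pt.map (dscale k b) (I x)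
  I_lie : ∀ x y z, ⁅x, y⁆ = z ↔
    Pt.map (a12 k k) (I z) = cm (Pt.map (a2 k k) (I x)) (Pt.map (a1 k k) (I y))

/-- the Lie algebra of a group with a chart -/
noncomputable def ofModel {k : Type u} [Field k] {G : Over (Spec (CommRingCat.of k))} [GrpObj G]
    (c : Chart G (𝟙 (Spec (CommRingCat.of k)))) {L : Type v} [LieRing L] [LieAlgebra k L]
    (m : LieS.Model G k (Spec.map (CommRingCat.ofHom (algebraMap k k))) L) : LMod k c.A L where
  I x := infR c k (m.e (Multiplicative.ofAdd x))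
  I_mem x := infR_mem c _
  I_inj x y h := Multiplicative.ofAdd.injective (m.e.injective (infR_injective c h))
  I_surj g hg := by
    obtain ⟨y, hy⟩ := exists_infR c hg
    obtain ⟨z, hz⟩ := m.e.surjective y
    refine ⟨Multiplicative.toAdd z, ?_⟩
    change infR c k (m.e z) = g
    rw [hz, hy]
  I_add x y := by rw [ofAdd_add, _root_.map_mul, _root_.map_mul]
  I_smul b x := by rw [m.e_smul, infR_smul]
  I_lie x y z := by
    refine Iff.trans ?_ (BrkDict.isBracket_iff c (str_eq k k) _ _ _)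
    constructor
    · rintro rfl
      exact m.e_lie x y
    · intro h
      exact Multiplicative.ofAdd.injective (m.e.injective
        (K988.LieBrk.isBracket_unique _ _ _ _ _ _ (m.e_lie x y) h))

lemma cm_map {Γ Γ' : Type*} [Group Γ] [Group Γ'] (φ : Γ →* Γ') (a b : Γ) :
    φ (cm a b) = cm (φ a) (φ b) := by
  simp only [cm, _root_.map_mul, _root_.map_inv]

lemma cm_conj {Γ : Type*} [Group Γ] (g a b : Γ) :
    g * cm a b * g⁻¹ = cm (g * a * g⁻¹) (g * b * g⁻¹) := by
  simp only [cm]
  group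

namespace LMod

variable {k A : Type u} [Field k] [CommRing A] [Algebra k A] [PtGrp k A] {L : Type v} [LieRing L]
    [LieAlgebra k L] (m : LMod k A L)

lemma I_zero : m.I 0 = 1 := by
  have h := m.I_add 0 0
  rw [add_zero] at h
  exact mul_eq_left.mp h.symm

/-- as a monoid homomorphism -/
noncomputable def IH : Multiplicative L →* Pt k A (DualNumber k) where
  toFun x := m.I x.toAdd
  map_one' := m.I_zero
  map_mul' x y := m.I_add _ _

/-- the element of the Lie algebra attached to an infinitesimal point -/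
noncomputable def J (g : Pt k A (DualNumber k)) (hg : g ∈ infP k A k) : L := (m.I_surj g hg).choose

@[simp] lemma I_J (g : Pt k A (DualNumber k)) (hg : g ∈ infP k A k) : m.I (m.J g hg) = g :=
  (m.I_surj g hg).choose_spec

lemma I_neg (x : L) : m.I (-x) = (m.I x)⁻¹ := by
  rw [eq_inv_iff_mul_eq_one, ← m.I_add, neg_add_cancel, m.I_zero]

lemma snd_I_add (x y : L) (a : A) :
    ((m.I (x + y)).hom a).snd = ((m.I x).hom a).snd + ((m.I y).hom a).snd := by
  rw [m.I_add, snd_mul (m.I_mem x) (m.I_mem y)]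

section Ad

lemma algHom_tinl_eq {C : Type u} [CommRing C] [Algebra k C] (φ ψ : k →ₐ[k] C) : φ = ψ := by
  apply AlgHom.ext
  intro x
  have h1 := φ.commutes x
  have h2 := ψ.commutes x
  simp only [Algebra.algebraMap_self, RingHom.id_apply] at h1 h2
  rw [h1, h2]

/-- the adjoint action -/
noncomputable def AdF (q : Pt k A k) (x : L) : L :=
  m.J (Pt.map (tinl k k) q * m.I x * (Pt.map (tinl k k) q)⁻¹) (infP_conj (m.I_mem x) _)

lemma I_AdF (q : Pt k A k) (x : L) : m.I (m.AdF q x) =
    Pt.map (tinl k k) q * m.I x * (Pt.map (tinl k k) q)⁻¹ := m.I_J _ (infP_conj (m.I_mem x) _)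

/-- the adjoint action -/
noncomputable def AdL (q : Pt k A k) : L →ₗ[k] L where
  toFun := m.AdF q
  map_add' x y := by
    apply m.I_inj
    rw [m.I_add, I_AdF, I_AdF, I_AdF, m.I_add]
    group
  map_smul' b x := by
    apply m.I_inj
    change m.I (m.AdF q (b • x)) = m.I (b • m.AdF q x)
    rw [m.I_smul, I_AdF, I_AdF, m.I_smul, Pt.map_mul, Pt.map_mul, Pt.map_inv, Pt.map_map,
      dscale_comp_tinl]

lemma I_AdL (q : Pt k A k) (x : L) : m.I (m.AdL q x) =
    Pt.map (tinl k k) q * m.I x * (Pt.map (tinl k k) q)⁻¹ := m.I_AdF q x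

lemma AdL_mul (q q' : Pt k A k) (x : L) : m.AdL (q * q') x = m.AdL q (m.AdL q' x) := by
  apply m.I_inj
  simp only [I_AdL, Pt.map_mul]
  group

lemma AdL_one (x : L) : m.AdL 1 x = x := by
  apply m.I_inj
  rw [I_AdL, Pt.map_one, inv_one, mul_one, one_mul]

/-- the adjoint action as a linear equivalence -/
noncomputable def Ad (q : Pt k A k) : L ≃ₗ[k] L where
  __ := m.AdL q
  invFun := m.AdL q⁻¹
  left_inv x := by
    change m.AdL q⁻¹ (m.AdL q x) = x
    rw [← AdL_mul, inv_mul_cancel, AdL_one]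
  right_inv x := by
    change m.AdL q (m.AdL q⁻¹ x) = x
    rw [← AdL_mul, mul_inv_cancel, AdL_one]

lemma I_Ad (q : Pt k A k) (x : L) : m.I (m.Ad q x) =
    Pt.map (tinl k k) q * m.I x * (Pt.map (tinl k k) q)⁻¹ := m.I_AdL q x

/-- The adjoint action respects brackets. -/
theorem Ad_lie (q : Pt k A k) (x y : L) : m.Ad q ⁅x, y⁆ = ⁅m.Ad q x, m.Ad q y⁆ := by
  symm
  rw [m.I_lie, I_Ad, I_Ad, I_Ad]
  have h0 := (m.I_lie x y _).1 rfl
  simp only [Pt.map_mul, Pt.map_inv, Pt.map_map]
  rw [h0, algHom_tinl_eq ((a12 k k).comp (tinl k k)) ((a1 k k).comp (tinl k k)),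
    algHom_tinl_eq ((a2 k k).comp (tinl k k)) ((a1 k k).comp (tinl k k)), cm_conj]

end Ad

section dec

variable (E : Datum k A)

/-- product of torus points -/
noncomputable def tmul {M : Type} [AddCommGroup M] {C : Type u} [CommRing C] (t t' : TPt M C) :
    TPt M C := t * t'

omit [PtGrp k A] in
lemma ch_tmul {M : Type} [AddCommGroup M] {C : Type u} [CommRing C] (t t' : TPt M C) (a : M) :
    TPt.ch a (tmul t t') = TPt.ch a t * TPt.ch a t' := rfl

lemma i_tmul {C : Type u} [CommRing C] [Algebra k C] (t t' : TPt E.M C) :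
    E.i C (tmul t t') = E.i C t * E.i C t' := _root_.map_mul (E.i C) t t'

/-- infinitesimal points of the torus -/
noncomputable def tt {M : Type} [AddCommGroup M] (f : M →+ k) : TPt M (DualNumber k) :=
  tsqT (1 : TPt M k) f

omit [PtGrp k A] in
lemma ch_tt {M : Type} [AddCommGroup M] (f : M →+ k) (a : M) : TPt.ch a (tt f) =
    TrivSqZeroExt.inl 1 + TrivSqZeroExt.inr (f a) := by
  have h := ch_tsqT (1 : TPt M k) f a
  rw [TPt.ch_one, one_mul] at h
  exact h

lemma tInf_tt (f : E.M →+ k) : TInf E.M k (tt f) := by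
  apply TPt.ext_ch
  intro a
  rw [TPt.ch_map, ch_tt, TPt.ch_one]
  simp

lemma exists_tt {t : TPt E.M (DualNumber k)} (ht : TInf E.M k t) :
    ∃ f : E.M →+ k, t = tt f := by
  refine ⟨{ toFun := fun a => (TPt.ch a t).snd, map_zero' := by rw [TPt.ch_zero]; rfl,
            map_add' := fun a b => ?_ }, ?_⟩
  · rw [TPt.ch_add]
    change (TPt.ch a t * TPt.ch b t).snd = _
    rw [TrivSqZeroExt.snd_mul, ch_fst ht, ch_fst ht, op_smul_eq_smul, one_smul, one_smul, add_comm]
  · apply TPt.ext_ch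
    intro a
    rw [ch_tt]
    apply TrivSqZeroExt.ext
    · rw [ch_fst ht]
      simp
    · simp

lemma tt_injective {M : Type} [AddCommGroup M] : Function.Injective (tt (k := k) (M := M)) := by
  intro f f' h
  apply AddMonoidHom.ext
  intro a
  have h1 := congrArg (TPt.ch a) h
  rw [ch_tt, ch_tt] at h1
  have h2 := congrArg TrivSqZeroExt.snd h1
  simpa using h2

lemma tt_add {M : Type} [AddCommGroup M] (f f' : M →+ k) : tt (f + f') = tmul (tt f) (tt f') := by
  apply TPt.ext_ch
  intro a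
  rw [ch_tmul, ch_tt, ch_tt, ch_tt]
  apply TrivSqZeroExt.ext
  · simp
  · simp [add_comm]

lemma tt_smul {M : Type} [AddCommGroup M] (b : k) (f : M →+ k) :
    tt (b • f) = TPt.map (dscale k b) (tt f) := by
  apply TPt.ext_ch
  intro a
  rw [TPt.ch_map, ch_tt, ch_tt]
  apply TrivSqZeroExt.ext
  · simp
  · simp [mul_comm]

/-- the torus part -/
noncomputable def hh (f : E.M →+ k) : L := m.J (E.i (DualNumber k) (tt f)) (i_mem E (tInf_tt E f))

lemma I_hh (f : E.M →+ k) : m.I (m.hh E f) = E.i (DualNumber k) (tt f) := m.I_J _ _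

/-- the torus part, as a linear map -/
noncomputable def hhL : (E.M →+ k) →ₗ[k] L where
  toFun := m.hh E
  map_add' f f' := by
    apply m.I_inj
    rw [m.I_add, I_hh, I_hh, I_hh, tt_add, i_tmul]
  map_smul' b f := by
    apply m.I_inj
    change m.I (m.hh E (b • f)) = m.I (b • m.hh E f)
    rw [m.I_smul, I_hh, I_hh, tt_smul, E.i_nat]

/-- the root vectors -/
noncomputable def xa (a : E.idx) : L := m.J (E.uu a (DualNumber k) (TrivSqZeroExt.inr 1)) (uu_mem E a 1)

lemma I_smul_xa (a : E.idx) (b : k) : m.I (b • m.xa E a) = E.uu a (DualNumber k) (TrivSqZeroExt.inr b) := by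
  rw [m.I_smul, xa, I_J, E.uu_nat, dscale_inr, mul_one]

/-- the decomposition, as a linear map -/
noncomputable def PhiL : ((E.idx → k) × (E.M →+ k)) →ₗ[k] L :=
  LinearMap.coprod (Fintype.linearCombination k (m.xa E)) (m.hhL E)

lemma I_PhiL (ξ : E.idx → k) (f : E.M →+ k) : m.I (m.PhiL E (ξ, f)) =
    E.cell (Finset.univ : Finset E.idx).toList (fun a => TrivSqZeroExt.inr (ξ a)) (tt f) := by
  have h1 : m.PhiL E (ξ, f) = (∑ a, ξ a • m.xa E a) + m.hh E f := by
    change Fintype.linearCombination k (m.xa E) ξ + m.hh E f = _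
    rw [Fintype.linearCombination_apply]
  rw [h1, m.I_add, I_hh]
  unfold Datum.cell
  congr 1
  have h2 : (∑ a, ξ a • m.xa E a) = ((Finset.univ : Finset E.idx).toList.map fun a => ξ a • m.xa E a).sum :=
    (Finset.sum_map_toList _ _).symm
  rw [h2]
  generalize (Finset.univ : Finset E.idx).toList = Ls
  induction Ls with
  | nil => simp [m.I_zero]
  | cons a Ls ih => rw [List.map_cons, List.sum_cons, m.I_add, ih, I_smul_xa, List.map_cons, List.prod_cons]

lemma PhiL_injective : Function.Injective (m.PhiL E) := by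
  rintro ⟨ξ, f⟩ ⟨ξ', f'⟩ h
  have h1 := congrArg m.I h
  rw [I_PhiL, I_PhiL] at h1
  obtain ⟨h2, h3⟩ := cell_unique E (Finset.nodup_toList Finset.univ)
      (fun a => Finset.mem_toList.mpr (Finset.mem_univ a)) (tInf_tt E f) (tInf_tt E f') h1
  rw [h2, tt_injective h3]

lemma PhiL_surjective (hG : E.Good) : Function.Surjective (m.PhiL E) := by
  intro x
  obtain ⟨ξ, t, ht, h⟩ := exists_cell E hG (Finset.nodup_toList Finset.univ)
      (fun a => Finset.mem_toList.mpr (Finset.mem_univ a)) (m.I_mem x)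
  obtain ⟨f, rfl⟩ := exists_tt E ht
  refine ⟨(ξ, f), ?_⟩
  apply m.I_inj
  rw [I_PhiL, h]

/-- the decomposition -/
noncomputable def Phi (hG : E.Good) : ((E.idx → k) × (E.M →+ k)) ≃ₗ[k] L :=
  LinearEquiv.ofBijective (m.PhiL E) ⟨m.PhiL_injective E, m.PhiL_surjective E hG⟩

lemma PhiL_zero_left (f : E.M →+ k) : m.PhiL E (0, f) = m.hh E f := by
  change Fintype.linearCombination k (m.xa E) 0 + m.hh E f = _
  rw [_root_.map_zero, zero_add]

lemma PhiL_single [DecidableEq E.idx] (a : E.idx) : m.PhiL E (Pi.single a 1, 0) = m.xa E a := by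
  change Fintype.linearCombination k (m.xa E) (Pi.single a 1) + m.hhL E 0 = _
  rw [_root_.map_zero, add_zero, Fintype.linearCombination_apply_single, one_smul]

lemma hh_comm (f f' : E.M →+ k) : ⁅m.hh E f, m.hh E f'⁆ = 0 := by
  rw [m.I_lie, I_zero, Pt.map_one, I_hh, I_hh, E.i_nat, E.i_nat]
  symm
  rw [K988.LieBrk.cm_eq_one_iff]
  exact i_comm E _ _

lemma root_bracket (f : E.M →+ k) (a : E.idx) : ⁅m.hh E f, m.xa E a⁆ = f (E.root a) • m.xa E a := by
  have h0 : m.xa E a = (1 : k) • m.xa E a := (one_smul k _).symm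
  rw [m.I_lie, I_smul_xa, I_hh, h0, I_smul_xa, E.i_nat, E.uu_nat, E.uu_nat, cm, E.rel,
    TPt.ch_map, ch_tt, ← Datum.uu_neg, ← E.uu_add]
  congr 1
  simp only [evA_apply, TrivSqZeroExt.fst_inr, TrivSqZeroExt.snd_inr, TrivSqZeroExt.fst_add,
    TrivSqZeroExt.fst_inl, TrivSqZeroExt.snd_add, TrivSqZeroExt.snd_inl, _root_.map_zero,
    _root_.map_one, add_zero, zero_add]
  ring

/-- **The root decomposition.** -/
noncomputable def dec [DecidableEq E.idx] (hG : E.Good) : Dec k L E.idx (E.M →+ k) where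
  Φ := m.Phi E hG
  δ a := { toFun := fun f => f (E.root a), map_add' := fun _ _ => rfl, map_smul' := fun _ _ => rfl }
  comm f f' := by
    change ⁅m.PhiL E (0, f), m.PhiL E (0, f')⁆ = 0
    rw [PhiL_zero_left, PhiL_zero_left, hh_comm]
  root f a := by
    change ⁅m.PhiL E (0, f), m.PhiL E (Pi.single a 1, 0)⁆ = f (E.root a) • m.PhiL E (Pi.single a 1, 0)
    rw [PhiL_zero_left, PhiL_single, root_bracket]

lemma dec_δ [DecidableEq E.idx] (hG : E.Good) (a : E.idx) (f : E.M →+ k) :
    (m.dec E hG).δ a f = f (E.root a) := rfl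

lemma dec_Φ [DecidableEq E.idx] (hG : E.Good) (x : (E.idx → k) × (E.M →+ k)) :
    (m.dec E hG).Φ x = m.PhiL E x := rfl

lemma mem_dec_H [DecidableEq E.idx] (hG : E.Good) (x : L) : x ∈ (m.dec E hG).H ↔
    ∃ t : TPt E.M (DualNumber k), TInf E.M k t ∧ m.I x = E.i (DualNumber k) t := by
  rw [Dec.mem_H]
  constructor
  · rintro ⟨f, rfl⟩
    refine ⟨_, tInf_tt E f, ?_⟩
    rw [dec_Φ, PhiL_zero_left, I_hh]
  · rintro ⟨t, ht, h⟩
    obtain ⟨f, rfl⟩ := exists_tt E ht
    refine ⟨f, ?_⟩
    apply m.I_inj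
    rw [dec_Φ, PhiL_zero_left, I_hh, h]

/-- the adjoint action of torus points -/
lemma Ad_PhiL (s : TPt E.M k) (ξ : E.idx → k) (f : E.M →+ k) :
    m.Ad (E.i k s) (m.PhiL E (ξ, f)) = m.PhiL E (fun a => TPt.ch (E.root a) s * ξ a, f) := by
  apply m.I_inj
  rw [I_Ad, I_PhiL, I_PhiL, conj_cell_inr]

end dec

section fin

variable {M : Type} [AddCommGroup M] [Module.Free ℤ M] [Module.Finite ℤ M]

instance finite_hom : Module.Finite k (M →+ k) := by
  let b := Module.Free.chooseBasis ℤ M
  refine Module.Finite.of_injective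
    ({ toFun := fun f j => f (b j), map_add' := fun _ _ => rfl, map_smul' := fun _ _ => rfl } :
      (M →+ k) →ₗ[k] (_ → k)) ?_
  intro f f' h
  have h1 : f.toIntLinearMap = f'.toIntLinearMap := b.ext fun j => congrFun h j
  apply AddMonoidHom.ext
  intro x
  exact congrArg (fun q => q x) h1

end fin

end LMod

end K796.LieMod
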