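import Groth.Agent.Pi1B.FlowLift
import Mathlib.RingTheory.PowerSeries.Basic
import Mathlib.RingTheory.PowerSeries.Inverse
import Mathlib.RingTheory.DualNumber
import Mathlib.Algebra.DualNumber

/-!
# The map `k⟦X⟧ → k[ε]` and lifting along it
-/

set_option autoImplicit false

universe u v

namespace K796.PSLift

open PowerSeries

variable (k : Type u) [CommRing k]

/-- truncation modulo `X ^ 2`, as a map to the dual numbers -/
noncomputable def tr : k⟦X⟧ →+* DualNumber k where
  toFun f := TrivSqZeroExt.inl (coeff 0 f) + TrivSqZeroExt.inr (coeff 1 f)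
  map_one' := by
    ext <;> simp [PowerSeries.coeff_one]
  map_zero' := by simp
  map_add' f g := by ext <;> simp
  map_mul' f g := by
    have h0 : coeff 0 (f * g) = coeff 0 f * coeff 0 g := by simp
    have h1 : coeff 1 (f * g) = coeff 0 f * coeff 1 g + coeff 1 f * coeff 0 g := by
      rw [PowerSeries.coeff_mul]
      simp [Finset.antidiagonal, Finset.Nat.antidiagonal_succ]
    rw [h0, h1]
    ext
    · simp
    · simp [DualNumber.snd_mul]

@[simp] theorem fst_tr (f : k⟦X⟧) : (tr k f).fst = coeff 0 f := by simp [tr]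

@[simp] theorem snd_tr (f : k⟦X⟧) : (tr k f).snd = coeff 1 f := by simp [tr]

theorem tr_surjective : Function.Surjective (tr k) := by
  intro x
  refine ⟨C x.fst + C x.snd * X, ?_⟩
  ext <;> simp [coeff_C]

theorem tr_C (a : k) : tr k (C a) = algebraMap k (DualNumber k) a := by
  ext <;> simp [TrivSqZeroExt.algebraMap_eq_inl', coeff_C]

theorem ker_tr : RingHom.ker (tr k) = Ideal.span {(X : k⟦X⟧) ^ 2} := by
  ext f
  rw [RingHom.mem_ker, Ideal.mem_span_singleton, PowerSeries.X_pow_dvd_iff]
  constructor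
  · intro h m hm
    have h0 := congrArg TrivSqZeroExt.fst h
    have h1 := congrArg TrivSqZeroExt.snd h
    rw [fst_tr] at h0
    rw [snd_tr] at h1
    interval_cases m
    · exact h0
    · exact h1
  · intro h
    ext
    · simpa using h 0 (by norm_num)
    · simpa using h 1 (by norm_num)

theorem mem_ker_pow (f : k⟦X⟧) (n : ℕ) :
    f ∈ RingHom.ker (tr k) ^ n ↔ ∀ m < 2 * n, coeff m f = 0 := by
  rw [ker_tr, Ideal.span_singleton_pow, Ideal.mem_span_singleton, ← pow_mul,
    PowerSeries.X_pow_dvd_iff]

instance isAdicComplete : IsAdicComplete (RingHom.ker (tr k)) k⟦X⟧ where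
  haus' := by
    intro f hf
    ext m
    have h := hf (m + 1)
    rw [SModEq.zero, smul_eq_mul, Ideal.mul_top, mem_ker_pow] at h
    simpa using h m (by omega)
  prec' := by
    intro f hf
    refine ⟨PowerSeries.mk fun m => coeff m (f (m + 1)), fun n => ?_⟩
    rw [SModEq.sub_mem, smul_eq_mul, Ideal.mul_top, mem_ker_pow]
    intro m hm
    rw [map_sub, coeff_mk, sub_eq_zero]
    rcases le_total n (m + 1) with h | h
    · have h1 := hf h
      rw [SModEq.sub_mem, smul_eq_mul, Ideal.mul_top, mem_ker_pow] at h1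
      have h2 := h1 m hm
      rwa [map_sub, sub_eq_zero] at h2
    · have h1 := hf h
      rw [SModEq.sub_mem, smul_eq_mul, Ideal.mul_top, mem_ker_pow] at h1
      have h2 := h1 m (by omega)
      rw [map_sub, sub_eq_zero] at h2
      exact h2.symm

/-- a `k`-algebra map `A → k[ε]`, `A` smooth over `k`, lifts to `k⟦X⟧`. -/
theorem exists_lift (A : Type v) [CommRing A] [Algebra k A] [Algebra.FormallySmooth k A]
    (f : A →+* DualNumber k) (hf : f.comp (algebraMap k A) = algebraMap k (DualNumber k)) :
    ∃ ψ : A →+* k⟦X⟧, (tr k).comp ψ = f ∧ ψ.comp (algebraMap k A) = C := by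
  refine Groth.Agent.Pi1B.FlowLift.exists_lift (tr k) (tr_surjective k) (C : k →+* k⟦X⟧) f ?_
  rw [hf]
  ext1 a
  exact (tr_C k a).symm

end K796.PSLift
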