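import Groth.Agent.SGA3t2b.K796.LieMod
import Groth.Agent.LieWt.K929.LieRoot2

/-!
# The Lie algebra of a maximal torus, in a chart
-/

set_option autoImplicit false
universe u v

open CategoryTheory MonoidalCategory CartesianMonoidalCategory MonObj GrpObj AlgebraicGeometry Limits

namespace K796.TorusPart

open Groth.Agent.Sga3B Cell PinMod DSPts GaPts K929.LieDict K929.LieCell K929.LieSplit K929.LieRoot
open K796.BrkDict K796.LieDec K796.LieMod

attribute [local instance] algDD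

variable {k : Type u} [Field k] {G T : Over (Spec (CommRingCat.of k))} [GrpObj G] [GrpObj T]
  (c : Chart G (𝟙 (Spec (CommRingCat.of k)))) {L : Type v} [LieRing L] [LieAlgebra k L]
  (m : LieS.Model G k (Spec.map (CommRingCat.ofHom (algebraMap k k))) L)

lemma map_val (i : T ⟶ G) [IsMonHom i] (w : ↥(LieS.LieR T k)) :
    (LieS.map k (Spec.map (CommRingCat.ofHom (algebraMap k k))) i w).1 = w.1 ≫ i := rfl

theorem mem_iff (D : Red.SplitRed G) (i : T ⟶ G) [IsMonHom i] [Mono i] (τ : Grp.mk T ≅ Grp.mk D.T)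
    (h : i = τ.hom.hom.hom ≫ D.i) (x : L) :
    (∃ w : ↥(LieS.LieR T k), m.e (Multiplicative.ofAdd x) =
      LieS.map k (Spec.map (CommRingCat.ofHom (algebraMap k k))) i w) ↔
    ∃ t : TPt (c.datum D).M (DualNumber k), TInf (c.datum D).M k t ∧
      (ofModel c m).I x = (c.datum D).i _ t := by
  have e1 : τ.hom.hom.hom ≫ τ.inv.hom.hom = 𝟙 _ := congrArg (fun f => f.hom.hom) τ.hom_inv_id
  have e2 : τ.inv.hom.hom ≫ τ.hom.hom.hom = 𝟙 _ := congrArg (fun f => f.hom.hom) τ.inv_hom_id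
  have hI : c.pts (DualNumber k) ((ofModel c m).I x) =
      (castD (str_eq k k)).hom ≫ (m.e (Multiplicative.ofAdd x)).1 := pts_inf c (str_eq k k) _
  constructor
  · rintro ⟨w, hw⟩
    obtain ⟨t, ht⟩ := exists_chΓ (𝟙 _) ((castD (str_eq k k)).hom ≫ w.1 ≫ τ.hom.hom.hom ≫ Chart.splitHom D)
    have h1 : (ofModel c m).I x = (c.datum D).i _ t := by
      apply (c.pts (DualNumber k)).injective
      rw [hI, c.pts_i, ← ht, hw, map_val, h]
      simp only [Category.assoc]
      rw [Chart.j, Chart.splitHom_inv_assoc]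
    refine ⟨t, ?_, h1⟩
    apply (c.datum D).i_inj
    rw [← (c.datum D).i_nat, ← h1, _root_.map_one]
    exact (ofModel c m).I_mem x
  · rintro ⟨t, ht, h1⟩
    have h2 : (castD (str_eq k k)).hom ≫ (m.e (Multiplicative.ofAdd x)).1 =
        dsEquiv (tB (𝟙 _) (DualNumber k)) D.M (chΓ (𝟙 _) t) ≫ Chart.j D := by
      rw [← hI, h1, c.pts_i]
    let w₀ : LieS.dpt k (Spec.map (CommRingCat.ofHom (algebraMap k k))) ⟶ T :=
      (castD (str_eq k k)).inv ≫ dsEquiv (tB (𝟙 _) (DualNumber k)) D.M (chΓ (𝟙 _) t) ≫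
        Chart.splitInv D ≫ τ.inv.hom.hom
    have h3 : w₀ ≫ i = (m.e (Multiplicative.ofAdd x)).1 := by
      simp only [w₀, Category.assoc, h]
      rw [← Category.assoc τ.inv.hom.hom, e2, Category.id_comp, Iso.inv_comp_eq, h2]
    have h4 : w₀ ∈ LieS.Lie T k (Spec.map (CommRingCat.ofHom (algebraMap k k))) := by
      rw [LieS.mem_Lie_iff, ← cancel_mono i, Category.assoc, h3,
        (LieS.mem_Lie_iff G k _ _).1 (m.e (Multiplicative.ofAdd x)).2]
      exact ((IsMonHom.monoidHom i _).map_one).symm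
    refine ⟨⟨w₀, h4⟩, ?_⟩
    apply Subtype.ext
    rw [map_val, h3]

end K796.TorusPart
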